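import Mathlib
import Groth.Prelude.Def_W4stkalgebra1Int

/-!
Small commutative algebra lemmas, batch C.
-/

namespace Groth.Agent.CAlgMisc

open scoped TensorProduct

universe u

theorem rTensor_injective_of_quotient_flat {R A M : Type u} [CommRing R] [CommRing A] [Algebra R A]
    (hA : Function.Surjective (algebraMap R A)) [AddCommGroup M] [Module R M] [Module.Flat A (A ⊗[R] M)]
    {N : Type u} [AddCommGroup N] [Module R N] (φ : N →ₗ[R] A) (hφ : Function.Injective φ) :
    Function.Injective (φ.rTensor M) := by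
  let b : Ideal A :=
    { carrier := Set.range φ
      add_mem' := fun {x y} ⟨a, ha⟩ ⟨c, hc⟩ => ⟨a + c, by rw [map_add, ha, hc]⟩
      zero_mem' := ⟨0, map_zero φ⟩
      smul_mem' := fun c x ⟨a, ha⟩ => by
        obtain ⟨r, rfl⟩ := hA c
        exact ⟨r • a, by rw [map_smul, ha, smul_eq_mul, Algebra.smul_def]⟩ }
  let ψ : N →ₗ[R] b := LinearMap.codRestrict (b.restrictScalars R) φ fun n => ⟨n, rfl⟩
  have hψ : Function.Bijective ψ :=
    ⟨fun x y h => hφ (congrArg Subtype.val h), fun ⟨y, n, hn⟩ => ⟨n, Subtype.ext hn⟩⟩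
  have hinc : φ = (Submodule.subtype b).restrictScalars R ∘ₗ ψ := rfl
  have key : Function.Injective (((Submodule.subtype b).restrictScalars R).rTensor M) := by
    have h := Module.Flat.rTensor_preserves_injective_linearMap (M := A ⊗[R] M) (Submodule.subtype b)
      Subtype.val_injective
    let e₁ := TensorProduct.AlgebraTensorModule.cancelBaseChange R A A b M
    let e₂ := TensorProduct.AlgebraTensorModule.cancelBaseChange R A A A M
    have hsq : ∀ z, ((Submodule.subtype b).restrictScalars R).rTensor M (e₁ z) =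
        e₂ ((Submodule.subtype b).rTensor (A ⊗[R] M) z) := by
      intro z
      induction z using TensorProduct.induction_on with
      | zero => simp
      | add a c ha hc => simp only [map_add, ha, hc]
      | tmul x t =>
        induction t using TensorProduct.induction_on with
        | zero => simp
        | add a c ha hc => simp only [TensorProduct.tmul_add, map_add, ha, hc]
        | tmul a m => simp [e₁, e₂]
    intro x y hxy
    obtain ⟨x, rfl⟩ := e₁.surjective x
    obtain ⟨y, rfl⟩ := e₁.surjective y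
    rw [hsq, hsq] at hxy
    rw [h (e₂.injective hxy)]
  rw [hinc, LinearMap.rTensor_comp, LinearMap.coe_comp]
  exact key.comp ((LinearEquiv.ofBijective ψ hψ).rTensor M).injective

theorem flat_of_two_quotients {R A₁ A₂ M : Type u} [CommRing R] [CommRing A₁] [CommRing A₂]
    [Algebra R A₁] [Algebra R A₂] (h₁ : Function.Surjective (algebraMap R A₁))
    (h₂ : Function.Surjective (algebraMap R A₂))
    (hker : RingHom.ker (algebraMap R A₁) ⊓ RingHom.ker (algebraMap R A₂) = ⊥)
    [AddCommGroup M] [Module R M] [Module.Flat A₁ (A₁ ⊗[R] M)] [Module.Flat A₂ (A₂ ⊗[R] M)] :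
    Module.Flat R M := by
  rw [Module.Flat.iff_rTensor_injective']
  intro a
  rw [injective_iff_map_eq_zero]
  intro x hx
  let π₁ : a →ₗ[R] A₁ := (Algebra.linearMap R A₁) ∘ₗ (Submodule.subtype a)
  have hx1 : π₁.rTensor M x = 0 := by
    rw [LinearMap.rTensor_comp, LinearMap.comp_apply, hx, map_zero]
  have hx2 : π₁.rangeRestrict.rTensor M x = 0 := by
    refine (rTensor_injective_of_quotient_flat h₁ (LinearMap.range π₁).subtype Subtype.val_injective) ?_
    rw [map_zero, ← LinearMap.comp_apply, ← LinearMap.rTensor_comp,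
      show (LinearMap.range π₁).subtype ∘ₗ π₁.rangeRestrict = π₁ from rfl]
    exact hx1
  have hexact : Function.Exact (LinearMap.ker π₁).subtype π₁.rangeRestrict := fun y => by
    rw [← LinearMap.mem_ker, LinearMap.ker_rangeRestrict]
    exact ⟨fun hy => ⟨⟨y, hy⟩, rfl⟩, fun ⟨z, hz⟩ => hz ▸ z.2⟩
  obtain ⟨y, rfl⟩ := (rTensor_exact M hexact π₁.surjective_rangeRestrict x).1 hx2
  let π₂ : LinearMap.ker π₁ →ₗ[R] A₂ := (Algebra.linearMap R A₂) ∘ₗ (Submodule.subtype a) ∘ₗ (LinearMap.ker π₁).subtype
  have hπ₂ : Function.Injective π₂ := (injective_iff_map_eq_zero π₂).2 fun z hz => by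
    have h : ((z : a) : R) ∈ RingHom.ker (algebraMap R A₁) ⊓ RingHom.ker (algebraMap R A₂) := ⟨z.2, hz⟩
    rw [hker, Ideal.mem_bot] at h
    exact Subtype.ext (Subtype.ext h)
  have hy : π₂.rTensor M y = 0 := by
    rw [LinearMap.rTensor_comp, LinearMap.comp_apply, LinearMap.rTensor_comp, LinearMap.comp_apply, hx, map_zero]
  rw [rTensor_injective_of_quotient_flat h₂ π₂ hπ₂ (hy.trans (map_zero _).symm), map_zero]

theorem flat_quotient_inf {R : Type u} [CommRing R] (M : Type u) [AddCommGroup M] [Module R M]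
    (I₁ I₂ : Ideal R) [Module.Flat (R ⧸ I₁) ((R ⧸ I₁) ⊗[R] M)] [Module.Flat (R ⧸ I₂) ((R ⧸ I₂) ⊗[R] M)] :
    Module.Flat (R ⧸ (I₁ ⊓ I₂)) ((R ⧸ (I₁ ⊓ I₂)) ⊗[R] M) := by
  letI a1 : Algebra (R ⧸ (I₁ ⊓ I₂)) (R ⧸ I₁) := (Ideal.Quotient.factor inf_le_left).toAlgebra
  letI a2 : Algebra (R ⧸ (I₁ ⊓ I₂)) (R ⧸ I₂) := (Ideal.Quotient.factor inf_le_right).toAlgebra
  haveI : IsScalarTower R (R ⧸ (I₁ ⊓ I₂)) (R ⧸ I₁) := IsScalarTower.of_algebraMap_eq fun r => rfl
  haveI : IsScalarTower R (R ⧸ (I₁ ⊓ I₂)) (R ⧸ I₂) := IsScalarTower.of_algebraMap_eq fun r => rfl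
  haveI := Module.Flat.of_linearEquiv
    (TensorProduct.AlgebraTensorModule.cancelBaseChange R (R ⧸ (I₁ ⊓ I₂)) (R ⧸ I₁) (R ⧸ I₁) M)
  haveI := Module.Flat.of_linearEquiv
    (TensorProduct.AlgebraTensorModule.cancelBaseChange R (R ⧸ (I₁ ⊓ I₂)) (R ⧸ I₂) (R ⧸ I₂) M)
  refine flat_of_two_quotients (A₁ := R ⧸ I₁) (A₂ := R ⧸ I₂) (fun y => ?_) (fun y => ?_) ?_
  · obtain ⟨r, rfl⟩ := Ideal.Quotient.mk_surjective y
    exact ⟨Ideal.Quotient.mk _ r, rfl⟩
  · obtain ⟨r, rfl⟩ := Ideal.Quotient.mk_surjective y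
    exact ⟨Ideal.Quotient.mk _ r, rfl⟩
  · refine (Submodule.eq_bot_iff _).2 fun y hy => ?_
    obtain ⟨r, rfl⟩ := Ideal.Quotient.mk_surjective y
    exact Ideal.Quotient.eq_zero_iff_mem.2 ⟨Ideal.Quotient.eq_zero_iff_mem.1 hy.1, Ideal.Quotient.eq_zero_iff_mem.1 hy.2⟩

theorem existsUnique_root {R : Type u} [CommRing R] (I : Ideal R) (hI : ∀ x ∈ I, IsNilpotent x) (n : ℕ)
    (hn : 1 ≤ n) (hinv : IsUnit ((n : ℕ) : R ⧸ I)) (y : R) (hy : y ∈ I) :
    ∃! x : R, x ∈ I ∧ (1 + x) ^ n = 1 + y := by
  have hnu : IsUnit (n : R) := by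
    obtain ⟨b, hb⟩ := hinv.exists_right_inv
    obtain ⟨b, rfl⟩ := Ideal.Quotient.mk_surjective b
    rw [← map_natCast (Ideal.Quotient.mk I), ← map_mul, ← map_one (Ideal.Quotient.mk I), Ideal.Quotient.eq] at hb
    have := (hI _ hb).isUnit_one_add
    rw [add_sub_cancel] at this
    exact isUnit_of_mul_isUnit_left this
  let P : Polynomial R := (1 + Polynomial.X) ^ n - Polynomial.C (1 + y)
  have h0 : IsNilpotent (Polynomial.aeval (0 : R) P) := by
    have : Polynomial.aeval (0 : R) P = -y := by simp [P]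
    rw [this]
    exact (hI y hy).neg
  have h1 : IsUnit (Polynomial.aeval (0 : R) (Polynomial.derivative P)) := by
    simpa [P, Polynomial.derivative_pow] using hnu
  obtain ⟨x, ⟨hx, hx'⟩, huniq⟩ := Polynomial.existsUnique_nilpotent_sub_and_aeval_eq_zero h0 h1
  have hPx : (1 + x) ^ n = 1 + y := by
    have : Polynomial.aeval x P = (1 + x) ^ n - (1 + y) := by simp [P]
    rwa [this, sub_eq_zero] at hx'
  refine ⟨x, ⟨?_, hPx⟩, fun z ⟨hz, hz'⟩ => huniq z ⟨?_, ?_⟩⟩
  · rw [← Ideal.Quotient.eq_zero_iff_mem]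
    have hx0 : IsNilpotent x := by simpa using hx
    have hu : IsUnit (∑ i ∈ Finset.range n, (1 + Ideal.Quotient.mk I x) ^ i) := by
      have h2 : IsNilpotent ((∑ i ∈ Finset.range n, (1 + Ideal.Quotient.mk I x) ^ i) - (n : R ⧸ I)) := by
        have : (∑ i ∈ Finset.range n, (1 + Ideal.Quotient.mk I x) ^ i) - (n : R ⧸ I) =
            ∑ i ∈ Finset.range n, ((1 + Ideal.Quotient.mk I x) ^ i - 1) := by
          rw [Finset.sum_sub_distrib]; simp
        rw [this]
        refine isNilpotent_sum fun i _ => ?_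
        obtain ⟨c, hc⟩ := sub_dvd_pow_sub_pow (1 + Ideal.Quotient.mk I x) 1 i
        rw [one_pow, add_sub_cancel_left] at hc
        rw [hc]
        exact Commute.isNilpotent_mul_right (Commute.all _ _) (hx0.map _)
      have := IsNilpotent.isUnit_add_right_of_commute h2 hinv (Commute.all _ _)
      rwa [sub_add_cancel] at this
    have hg := geom_sum_mul (1 + Ideal.Quotient.mk I x) n
    rw [add_sub_cancel_left] at hg
    have h3 : (1 + Ideal.Quotient.mk I x) ^ n = 1 := by
      have := congrArg (Ideal.Quotient.mk I) hPx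
      rw [map_pow, map_add, map_add, map_one, Ideal.Quotient.eq_zero_iff_mem.2 hy, add_zero] at this
      exact this
    rw [h3, sub_self] at hg
    exact hu.mul_right_eq_zero.1 hg
  · simpa using hI z hz
  · simp [P, hz']

theorem exists_root_iff {R : Type u} [CommRing R] (I : Ideal R) (hI : ∀ x ∈ I, IsNilpotent x) (n : ℕ)
    (hn : 1 ≤ n) (hinv : IsUnit ((n : ℕ) : R ⧸ I)) (u : Rˣ) :
    (∃ v : R, v ^ n = (u : R)) ↔ ∃ w : R ⧸ I, w ^ n = Ideal.Quotient.mk I (u : R) := by
  refine ⟨fun ⟨v, hv⟩ => ⟨Ideal.Quotient.mk I v, by rw [← map_pow, hv]⟩, fun ⟨w, hw⟩ => ?_⟩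
  obtain ⟨v, rfl⟩ := Ideal.Quotient.mk_surjective w
  rw [← map_pow, Ideal.Quotient.eq] at hw
  set d := v ^ n - (u : R) with hd
  have hvn : v ^ n = (u : R) * (1 + ((u⁻¹ : Rˣ) : R) * d) := by
    rw [mul_add, mul_one, ← mul_assoc, Units.mul_inv, one_mul, hd]; ring
  have hw' : IsUnit (1 + ((u⁻¹ : Rˣ) : R) * d) := (hI _ (I.mul_mem_left _ hw)).isUnit_one_add
  have hmem : ((hw'.unit⁻¹ : Rˣ) : R) - 1 ∈ I := by
    have he : ((hw'.unit⁻¹ : Rˣ) : R) - 1 = -(((hw'.unit⁻¹ : Rˣ) : R) * (((u⁻¹ : Rˣ) : R) * d)) := by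
      have := hw'.val_inv_mul
      linear_combination this
    rw [he]
    exact I.neg_mem (I.mul_mem_left _ (I.mul_mem_left _ hw))
  obtain ⟨x, ⟨-, hx⟩, -⟩ := existsUnique_root I hI n hn hinv _ hmem
  refine ⟨v * (1 + x), ?_⟩
  rw [mul_pow, hx, add_sub_cancel, hvn, mul_assoc, hw'.mul_val_inv, mul_one]

theorem finite_iff_piRightHom (R : Type u) [CommRing R] (M : Type u) [AddCommGroup M] [Module R M] :
    Module.Finite R M ↔ ∀ (ι : Type u) (Q : ι → Type u) [∀ i, AddCommGroup (Q i)]
      [∀ i, Module R (Q i)], Function.Surjective (TensorProduct.piRightHom R R M Q) := by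
  constructor
  · intro _ ι Q _ _ z
    obtain ⟨k, v, hv⟩ := Module.Finite.exists_fin (R := R) (M := M)
    have hex : ∀ i (t : M ⊗[R] Q i), ∃ q : Fin k → Q i, t = ∑ l, v l ⊗ₜ[R] q l := by
      intro i t
      induction t using TensorProduct.induction_on with
      | zero => exact ⟨0, by simp⟩
      | add a b ha hb =>
        obtain ⟨qa, rfl⟩ := ha
        obtain ⟨qb, rfl⟩ := hb
        exact ⟨qa + qb, by simp [TensorProduct.tmul_add, Finset.sum_add_distrib]⟩
      | tmul m q =>
        obtain ⟨c, hc⟩ := (Submodule.mem_span_range_iff_exists_fun R).1 (hv ▸ Submodule.mem_top : m ∈ Submodule.span R (Set.range v))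
        exact ⟨fun l => c l • q, by
          rw [← hc, TensorProduct.sum_tmul]
          simp [TensorProduct.smul_tmul]⟩
    choose q hq using fun i => hex i (z i)
    refine ⟨∑ l, v l ⊗ₜ[R] fun i => q i l, funext fun i => ?_⟩
    rw [hq i, map_sum, Finset.sum_apply]
    exact Finset.sum_congr rfl fun l _ => by rw [TensorProduct.piRightHom_tmul]
  · intro h
    obtain ⟨t, ht⟩ := h M (fun _ => R) (fun m => m ⊗ₜ[R] (1 : R))
    have hmem : ∀ s : M ⊗[R] (M → R), ∃ S : Finset M, ∀ m,
        TensorProduct.rid R M (TensorProduct.piRightHom R R M (fun _ => R) s m) ∈ Submodule.span R (S : Set M) := by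
      classical
      intro s
      induction s using TensorProduct.induction_on with
      | zero => exact ⟨∅, fun m => by simp⟩
      | add a b ha hb =>
        obtain ⟨A, hA⟩ := ha
        obtain ⟨B, hB⟩ := hb
        refine ⟨A ∪ B, fun m => ?_⟩
        rw [map_add, Pi.add_apply, map_add, Finset.coe_union, Submodule.span_union]
        exact Submodule.add_mem_sup (hA m) (hB m)
      | tmul x f =>
        refine ⟨{x}, fun m => ?_⟩
        rw [TensorProduct.piRightHom_tmul, TensorProduct.rid_tmul, Finset.coe_singleton]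
        exact Submodule.smul_mem _ _ (Submodule.mem_span_singleton_self x)
    obtain ⟨S, hS⟩ := hmem t
    refine ⟨⟨S, eq_top_iff.2 fun m _ => ?_⟩⟩
    have := hS m
    rwa [ht, TensorProduct.rid_tmul, one_smul] at this

theorem tmul_sum_eq_zero {R M Q : Type u} [CommRing R] [AddCommGroup M] [Module R M] [AddCommGroup Q]
    [Module R Q] {n : ℕ} (π : (Fin n → R) →ₗ[R] M) (hπ : Function.Surjective π) (q : Fin n → Q)
    (h : ∑ l, π (Pi.single l 1) ⊗ₜ[R] q l = 0) :
    ∃ (s : Finset ((LinearMap.ker π) × Q)), ∀ l, q l = ∑ x ∈ s, ((x.1 : Fin n → R) l) • x.2 := by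
  classical
  let t : (Fin n → R) ⊗[R] Q := ∑ l, Pi.single l 1 ⊗ₜ[R] q l
  have ht : π.rTensor Q t = 0 := by simp [t, map_sum, h]
  obtain ⟨w, hw⟩ := (rTensor_exact Q (LinearMap.exact_subtype_ker_map π) hπ t).1 ht
  obtain ⟨s, rfl⟩ := TensorProduct.exists_finset w
  refine ⟨s, fun l => ?_⟩
  have := congrArg (fun z => TensorProduct.lid R Q ((LinearMap.proj l).rTensor Q z)) hw
  simp [t, map_sum, Pi.single_apply] at this
  exact this.symm

theorem finitePresentation_iff_piRightHom (R : Type u) [CommRing R] (M : Type u) [AddCommGroup M]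
    [Module R M] : Module.FinitePresentation R M ↔ ∀ (ι : Type u) (Q : ι → Type u) [∀ i, AddCommGroup (Q i)]
      [∀ i, Module R (Q i)], Function.Bijective (TensorProduct.piRightHom R R M Q) := by
  constructor
  · intro _ ι Q _ _
    refine ⟨(injective_iff_map_eq_zero _).2 fun z hz => ?_, (finite_iff_piRightHom R M).1 inferInstance ι Q⟩
    obtain ⟨n, π, hπ⟩ := Module.Finite.exists_fin' R M
    obtain ⟨m, A, hA⟩ := Submodule.fg_iff_exists_fin_generating_family.1 (Module.FinitePresentation.fg_ker π hπ)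
    obtain ⟨a, rfl⟩ : ∃ a : Fin n → ∀ i, Q i, z = ∑ l, π (Pi.single l 1) ⊗ₜ[R] a l := by
      clear hz
      induction z using TensorProduct.induction_on with
      | zero => exact ⟨0, by simp⟩
      | add x y hx hy =>
        obtain ⟨a, rfl⟩ := hx
        obtain ⟨b, rfl⟩ := hy
        exact ⟨a + b, by simp [TensorProduct.tmul_add, Finset.sum_add_distrib]⟩
      | tmul x q =>
        obtain ⟨v, rfl⟩ := hπ x
        refine ⟨fun l => v l • q, ?_⟩
        conv_lhs => rw [pi_eq_sum_univ' v]
        simp [map_sum, TensorProduct.sum_tmul, TensorProduct.smul_tmul]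
    have hi : ∀ i, ∃ b : Fin m → Q i, ∀ l, a l i = ∑ j, A j l • b j := by
      intro i
      obtain ⟨s, hs⟩ := tmul_sum_eq_zero π hπ (fun l => a l i) (by
        simpa [map_sum, Finset.sum_apply] using congrFun hz i)
      have hc : ∀ x : LinearMap.ker π, ∃ c : Fin m → R, ∑ j, c j • A j = (x : Fin n → R) := fun x =>
        (Submodule.mem_span_range_iff_exists_fun R).1 (hA.symm ▸ x.2)
      choose c hc using hc
      refine ⟨fun j => ∑ x ∈ s, c x.1 j • x.2, fun l => ?_⟩
      refine (hs l).trans ?_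
      simp only [Finset.smul_sum]
      rw [Finset.sum_comm]
      refine Finset.sum_congr rfl fun x _ => ?_
      rw [← hc x.1, Finset.sum_apply, Finset.sum_smul]
      exact Finset.sum_congr rfl fun j _ => by rw [Pi.smul_apply, smul_eq_mul, mul_comm, mul_smul]
    choose b hb using hi
    have ha : ∀ l, a l = ∑ j, A j l • (fun i => b i j) := fun l => funext fun i => by
      simp [hb i l, Finset.sum_apply]
    simp only [ha, TensorProduct.tmul_sum]
    rw [Finset.sum_comm]
    refine Finset.sum_eq_zero fun j _ => ?_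
    have hker : π (A j) = 0 := LinearMap.mem_ker.1 (hA ▸ Submodule.subset_span ⟨j, rfl⟩ : A j ∈ LinearMap.ker π)
    rw [pi_eq_sum_univ' (A j), map_sum] at hker
    simp only [map_smul] at hker
    simp only [← TensorProduct.smul_tmul, ← TensorProduct.sum_tmul]
    rw [hker, TensorProduct.zero_tmul]
  · intro h
    haveI : Module.Finite R M := (finite_iff_piRightHom R M).2 fun ι Q _ _ => (h ι Q).2
    obtain ⟨n, π, hπ⟩ := Module.Finite.exists_fin' R M
    refine Module.finitePresentation_of_surjective π hπ ?_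
    classical
    let K := LinearMap.ker π
    let a : Fin n → K → R := fun l k => (k : Fin n → R) l
    have h0 : ∑ l, π (Pi.single l 1) ⊗ₜ[R] a l = 0 := by
      apply (h K (fun _ => R)).1
      rw [map_zero, map_sum]
      funext k
      rw [Finset.sum_apply]
      simp only [TensorProduct.piRightHom_tmul, a]
      have hk : π (k : Fin n → R) = 0 := LinearMap.mem_ker.1 k.2
      rw [pi_eq_sum_univ' (k : Fin n → R), map_sum] at hk
      simp only [map_smul] at hk
      apply (TensorProduct.rid R M).injective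
      rw [map_sum, Pi.zero_apply, map_zero]
      simpa using hk
    obtain ⟨s, hs⟩ := tmul_sum_eq_zero π hπ a h0
    refine ⟨s.image fun x => (x.1 : Fin n → R), le_antisymm ?_ ?_⟩
    · rw [Submodule.span_le]
      intro y hy
      obtain ⟨x, -, rfl⟩ := Finset.mem_image.1 hy
      exact x.1.2
    · intro k hk
      have : k = ∑ x ∈ s, x.2 ⟨k, hk⟩ • (x.1 : Fin n → R) := funext fun l => by
        have := congrFun (hs l) ⟨k, hk⟩
        simp only [a, Finset.sum_apply, Pi.smul_apply, smul_eq_mul] at this ⊢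
        rw [this]
        exact Finset.sum_congr rfl fun x _ => mul_comm _ _
      rw [this]
      exact Submodule.sum_mem _ fun x hx => Submodule.smul_mem _ _
        (Submodule.subset_span (Finset.mem_coe.2 (Finset.mem_image_of_mem _ hx)))

theorem exists_free_summand (R : Type u) [CommRing R] (P : Type u) [AddCommGroup P]
    [Module R P] [Module.Projective R P] (s : P) :
    ∃ (n : ℕ) (K K' : Submodule R ((Fin n → R) × P)), IsCompl K K' ∧ Module.Free R K ∧ Module.Finite R K ∧
      ((0, s) : (Fin n → R) × P) ∈ K := by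
  classical
  obtain ⟨i, hi⟩ := (Module.Projective.out : ∃ i : P →ₗ[R] (P →₀ R), _)
  set J := (i s).support
  let n := J.card
  let e : Fin n ≃ J := J.equivFin.symm
  let b : P →ₗ[R] (Fin n → R) := LinearMap.pi fun l => Finsupp.lapply ((e l : J) : P) ∘ₗ i
  let a : (Fin n → R) →ₗ[R] P := ∑ l, (LinearMap.proj l).smulRight ((e l : J) : P)
  have hab : a (b s) = s := by
    have h := hi s
    rw [Finsupp.linearCombination_apply, Finsupp.sum, show (i s).support = J from rfl, ← Finset.sum_coe_sort,
      ← e.sum_comp] at h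
    simpa [a, b] using h
  let f : (Fin n → R) →ₗ[R] (Fin n → R) × P := (LinearMap.id - b ∘ₗ a).prod a
  let g : P →ₗ[R] (Fin n → R) × P := (-b).prod LinearMap.id
  let r : (Fin n → R) × P →ₗ[R] (Fin n → R) := LinearMap.fst R _ _ + b ∘ₗ LinearMap.snd R _ _
  have hrf : ∀ x, r (f x) = x := fun x => by simp [r, f]
  have hfinj : Function.Injective f := Function.LeftInverse.injective hrf
  refine ⟨n, LinearMap.range f, LinearMap.range g, IsCompl.of_eq ?_ ?_,
    Module.Free.of_equiv (LinearEquiv.ofInjective f hfinj),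
    Module.Finite.equiv (LinearEquiv.ofInjective f hfinj), b s, ?_⟩
  · rw [Submodule.eq_bot_iff]
    rintro _ ⟨⟨x, rfl⟩, y, hy⟩
    have hx : x = 0 := by
      have h1 := congrArg r hy
      rw [hrf] at h1
      rw [← h1]; simp [r, g]
    rw [hx, map_zero]
  · rw [eq_top_iff]
    intro z _
    rw [Submodule.mem_sup]
    refine ⟨f (r z), ⟨r z, rfl⟩, g (z.2 - a (r z)), ⟨_, rfl⟩, ?_⟩
    ext <;> simp [f, g, r]
  · simp [f, hab]

theorem exists_prime_comap_tensor (k : Type u) [Field k] (R S : Type u) [CommRing R] [Algebra k R] [CommRing S]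
    [Algebra k S] (g : R ⊗[k] S) (p : PrimeSpectrum R) :
    (∃ q : PrimeSpectrum (R ⊗[k] S), g ∉ q.asIdeal ∧ q.asIdeal.comap (algebraMap R (R ⊗[k] S)) = p.asIdeal) ↔
      ¬ IsNilpotent (Algebra.TensorProduct.map (IsScalarTower.toAlgHom k R p.asIdeal.ResidueField) (AlgHom.id k S) g) := by
  constructor
  · rintro ⟨q, hgq, hqp⟩ hnil
    let φ : R ⊗[k] S →+* q.asIdeal.ResidueField := algebraMap _ _
    let κq := q.asIdeal.ResidueField
    let ρ : p.asIdeal.ResidueField →+* κq := Ideal.ResidueField.map p.asIdeal q.asIdeal (algebraMap R (R ⊗[k] S)) hqp.symm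
    let ρ' : p.asIdeal.ResidueField →ₐ[k] κq :=
      { toRingHom := ρ
        commutes' := fun c => by
          show ρ (algebraMap k _ c) = algebraMap k κq c
          rw [IsScalarTower.algebraMap_apply k R p.asIdeal.ResidueField]
          show ρ (algebraMap R _ (algebraMap k R c)) = _
          rw [Ideal.ResidueField.map_algebraMap, IsScalarTower.algebraMap_apply k (R ⊗[k] S) κq,
            IsScalarTower.algebraMap_apply k R (R ⊗[k] S)] }
    let ψ : p.asIdeal.ResidueField ⊗[k] S →+* κq :=
      (Algebra.TensorProduct.lift ρ'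
        ((IsScalarTower.toAlgHom k (R ⊗[k] S) κq).comp Algebra.TensorProduct.includeRight)
        (fun _ _ => Commute.all _ _)).toRingHom
    have hcomp : ψ.comp (Algebra.TensorProduct.map (IsScalarTower.toAlgHom k R p.asIdeal.ResidueField) (AlgHom.id k S)).toRingHom = φ := by
      refine RingHom.ext fun t => ?_
      induction t using TensorProduct.induction_on with
      | zero => rw [map_zero, map_zero]
      | add a b ha hb => rw [map_add, map_add, ha, hb]
      | tmul r s =>
        have h1 : φ (r ⊗ₜ[k] s) = ρ (algebraMap R _ r) * φ (1 ⊗ₜ[k] s) := by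
          rw [show ρ (algebraMap R _ r) = φ (algebraMap R (R ⊗[k] S) r) from Ideal.ResidueField.map_algebraMap _ _ _ _ r,
            ← map_mul]
          simp [Algebra.TensorProduct.algebraMap_apply]
        rw [h1]
        simp [ψ, φ, ρ', ρ, κq]
    have h0 : φ g = 0 := by
      rw [← hcomp]
      exact (hnil.map ψ).eq_zero
    exact hgq (Ideal.algebraMap_residueField_eq_zero.1 h0)
  · intro hnil
    let π := Algebra.TensorProduct.map (IsScalarTower.toAlgHom k R p.asIdeal.ResidueField) (AlgHom.id k S)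
    obtain ⟨Q, hQ⟩ : ∃ Q : PrimeSpectrum (p.asIdeal.ResidueField ⊗[k] S), π g ∉ Q.asIdeal := by
      by_contra h
      push Not at h
      refine hnil (mem_nilradical.1 ?_)
      rw [nilradical_eq_sInf, Submodule.mem_sInf]
      intro (P : Ideal _) (hP : P.IsPrime)
      exact h ⟨P, hP⟩
    refine ⟨PrimeSpectrum.comap π.toRingHom Q, hQ, ?_⟩
    ext r
    show π (algebraMap R (R ⊗[k] S) r) ∈ Q.asIdeal ↔ _
    have hr : π (algebraMap R (R ⊗[k] S) r) =
        algebraMap p.asIdeal.ResidueField (p.asIdeal.ResidueField ⊗[k] S) (algebraMap R _ r) := by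
      simp [π, Algebra.TensorProduct.algebraMap_apply]
    rw [hr, ← Ideal.algebraMap_residueField_eq_zero (I := p.asIdeal) (x := r)]
    refine ⟨fun h => ?_, fun h => by rw [h, map_zero]; exact zero_mem _⟩
    by_contra hne
    exact Q.2.ne_top (Ideal.eq_top_of_isUnit_mem _ h ((isUnit_iff_ne_zero.2 hne).map _))

theorem flat_baseChange_left {R S S' : Type u} [CommRing R] [CommRing S] [CommRing S'] [Algebra R S]
    [Algebra R S'] [Algebra S S'] [IsScalarTower R S S'] (M : Type u) [AddCommGroup M] [Module S M]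
    [Module R M] [IsScalarTower R S M] [Module.Flat S S'] [Module.Flat R M] :
    Module.Flat R (S' ⊗[S] M) := by
  rw [Module.Flat.iff_lTensor_preserves_injective_linearMap]
  intro N N' _ _ _ _ f hf
  let e : ∀ (N : Type u) [AddCommGroup N] [Module R N], S' ⊗[S] (M ⊗[R] N) ≃ₗ[R] N ⊗[R] (S' ⊗[S] M) :=
    fun N _ _ => (TensorProduct.AlgebraTensorModule.assoc R S S S' M N).symm.restrictScalars R ≪≫ₗ
      TensorProduct.comm R (S' ⊗[S] M) N
  have h1 : Function.Injective (TensorProduct.AlgebraTensorModule.lTensor S M f) :=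
    Module.Flat.lTensor_preserves_injective_linearMap f hf
  have h2 := Module.Flat.lTensor_preserves_injective_linearMap (M := S') (TensorProduct.AlgebraTensorModule.lTensor S M f) h1
  have hsq : ∀ z, (f.lTensor (S' ⊗[S] M)) (TensorProduct.comm R _ _ (e N z)) = TensorProduct.comm R _ _
      (e N' ((TensorProduct.AlgebraTensorModule.lTensor S M f).lTensor S' z)) := by
    intro z
    induction z using TensorProduct.induction_on with
    | zero => simp
    | add a b ha hb => simp only [map_add, ha, hb]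
    | tmul x t =>
      induction t using TensorProduct.induction_on with
      | zero => simp
      | add a b ha hb => simp only [TensorProduct.tmul_add, map_add, ha, hb]
      | tmul m y => simp [e]
  intro x y hxy
  obtain ⟨x, rfl⟩ := (TensorProduct.comm R _ _).surjective x
  obtain ⟨y, rfl⟩ := (TensorProduct.comm R _ _).surjective y
  obtain ⟨x, rfl⟩ := (e N).surjective x
  obtain ⟨y, rfl⟩ := (e N).surjective y
  rw [hsq, hsq] at hxy
  rw [h2 ((e N').injective ((TensorProduct.comm R _ _).injective hxy))]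

theorem flat_iff_baseChange_ff {R S S' : Type u} [CommRing R] [CommRing S] [CommRing S'] [Algebra R S]
    [Algebra R S'] [Algebra S S'] [IsScalarTower R S S'] (M : Type u) [AddCommGroup M] [Module S M]
    [Module R M] [IsScalarTower R S M] [Module.FaithfullyFlat S S'] :
    Module.Flat R M ↔ Module.Flat R (S' ⊗[S] M) := by
  refine ⟨fun _ => flat_baseChange_left M, fun hflat => ?_⟩
  rw [Module.Flat.iff_lTensor_preserves_injective_linearMap]
  intro N N' _ _ _ _ f hf
  refine (Module.FaithfullyFlat.lTensor_injective_iff_injective S S'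
    (TensorProduct.AlgebraTensorModule.lTensor S M f)).1 ?_
  have h1 := Module.Flat.lTensor_preserves_injective_linearMap (M := S' ⊗[S] M) f hf
  have hsq : ∀ z, (f.lTensor (S' ⊗[S] M)) ((TensorProduct.AlgebraTensorModule.assoc R S S S' M N).symm z) =
      (TensorProduct.AlgebraTensorModule.assoc R S S S' M N').symm
        ((TensorProduct.AlgebraTensorModule.lTensor S M f).lTensor S' z) := by
    intro z
    induction z using TensorProduct.induction_on with
    | zero => simp
    | add a b ha hb => simp only [map_add, ha, hb]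
    | tmul x t =>
      induction t using TensorProduct.induction_on with
      | zero => simp
      | add a b ha hb => simp only [TensorProduct.tmul_add, map_add, ha, hb]
      | tmul m y => simp
  intro x y hxy
  apply (TensorProduct.AlgebraTensorModule.assoc R S S S' M N).symm.injective
  apply h1
  rw [hsq, hsq, hxy]

theorem flat_directLimit {R : Type u} [CommRing R] {ι : Type u} [Preorder ι] [Nonempty ι]
    [IsDirected ι (· ≤ ·)] (G : ι → Type u) [∀ i, CommRing (G i)] [∀ i, Algebra R (G i)]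
    (f : ∀ i j, i ≤ j → G i →+* G j) [DirectedSystem G fun i j h => f i j h]
    (hcompat : ∀ i j (h : i ≤ j), (f i j h).comp (algebraMap R (G i)) = algebraMap R (G j))
    (hff : ∀ i, (algebraMap R (G i)).FaithfullyFlat) (i : ι) :
    ((Ring.DirectLimit.of G (fun i j h => f i j h) i).comp (algebraMap R (G i))).FaithfullyFlat := by
  set L := Ring.DirectLimit G (fun i j h => f i j h)
  set of := fun j => Ring.DirectLimit.of G (fun i j h => f i j h) j
  set φ := (of i).comp (algebraMap R (G i))
  have hφ : ∀ j r, of j (algebraMap R (G j) r) = φ r := by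
    intro j r
    obtain ⟨k, hik, hjk⟩ := exists_ge_ge i j
    show of j (algebraMap R (G j) r) = of i (algebraMap R (G i) r)
    simp only [of]
    rw [← Ring.DirectLimit.of_f hik, ← Ring.DirectLimit.of_f hjk, ← RingHom.comp_apply (f j k hjk),
      ← RingHom.comp_apply (f i k hik), hcompat, hcompat]
  rw [RingHom.FaithfullyFlat]
  letI := φ.toAlgebra
  haveI hG : ∀ j, Module.FaithfullyFlat R (G j) := fun j => RingHom.faithfullyFlat_algebraMap_iff.1 (hff j)
  haveI : Module.Flat R L := by
    rw [Module.Flat.iff_forall_isTrivialRelation]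
    intro l a x hx
    classical
    have hrep : ∀ j₀ (x : Fin l → L), ∃ (j : ι) (y : Fin l → G j), j₀ ≤ j ∧ ∀ m, of j (y m) = x m := by
      intro j₀ x
      choose jm ym hym using fun m => Ring.DirectLimit.exists_of (x m)
      obtain ⟨j, hj⟩ := Finset.exists_le (insert j₀ (Finset.univ.image jm))
      refine ⟨j, fun m => f (jm m) j (hj _ (Finset.mem_insert_of_mem (Finset.mem_image_of_mem _ (Finset.mem_univ m)))) (ym m),
        hj _ (Finset.mem_insert_self _ _), fun m => ?_⟩
      simp only [of, Ring.DirectLimit.of_f]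
      exact hym m
    obtain ⟨j, y, -, hy⟩ := hrep i x
    have h0 : of j (∑ m, a m • y m) = 0 := by
      rw [map_sum, ← hx]
      refine Finset.sum_congr rfl fun m _ => ?_
      rw [Algebra.smul_def, map_mul, hφ, hy]
      rfl
    obtain ⟨j', hjj', hzero⟩ := Ring.DirectLimit.of.zero_exact h0
    have h1 : ∑ m, a m • f j j' hjj' (y m) = 0 := by
      rw [← hzero, map_sum]
      refine Finset.sum_congr rfl fun m _ => ?_
      rw [Algebra.smul_def, Algebra.smul_def, map_mul, ← RingHom.comp_apply (f j j' hjj'), hcompat]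
    obtain ⟨k, c, z, hz, hc⟩ := Module.Flat.isTrivialRelation_of_sum_smul_eq_zero (R := R) (M := G j') h1
    refine ⟨k, c, fun t => of j' (z t), fun m => ?_, hc⟩
    rw [← hy m]
    show of j (y m) = _
    simp only [of]
    rw [← Ring.DirectLimit.of_f hjj', show f j j' hjj' (y m) = _ from hz m, map_sum]
    refine Finset.sum_congr rfl fun t _ => ?_
    rw [Algebra.smul_def, Algebra.smul_def, map_mul, hφ]
    rfl
  refine ⟨fun {m} hm htop => ?_⟩
  rw [Ideal.smul_top_eq_map] at htop
  have h1 : (1 : L) ∈ m.map φ := by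
    have : (1 : L) ∈ (m.map (algebraMap R L)).restrictScalars R := by rw [htop]; trivial
    exact this
  have hmem : ∀ t ∈ m.map φ, ∃ (j : ι) (y : G j), y ∈ m.map (algebraMap R (G j)) ∧ of j y = t := by
    intro t ht
    induction ht using Submodule.span_induction with
    | mem t ht =>
      obtain ⟨r, hr, rfl⟩ := ht
      exact ⟨i, algebraMap R (G i) r, Ideal.mem_map_of_mem _ hr, rfl⟩
    | zero => exact ⟨i, 0, zero_mem _, map_zero _⟩
    | add a b _ _ ha hb =>
      obtain ⟨ja, ya, hya, rfl⟩ := ha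
      obtain ⟨jb, yb, hyb, rfl⟩ := hb
      obtain ⟨j, hja, hjb⟩ := exists_ge_ge ja jb
      refine ⟨j, f ja j hja ya + f jb j hjb yb, Ideal.add_mem _ ?_ ?_, by simp [of]⟩
      · rw [← hcompat ja j hja, ← Ideal.map_map]; exact Ideal.mem_map_of_mem _ hya
      · rw [← hcompat jb j hjb, ← Ideal.map_map]; exact Ideal.mem_map_of_mem _ hyb
    | smul c a _ ha =>
      obtain ⟨ja, ya, hya, rfl⟩ := ha
      obtain ⟨jc, yc, rfl⟩ := Ring.DirectLimit.exists_of c
      obtain ⟨j, hja, hjc⟩ := exists_ge_ge ja jc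
      refine ⟨j, f jc j hjc yc * f ja j hja ya, Ideal.mul_mem_left _ _ ?_, by simp [of]⟩
      rw [← hcompat ja j hja, ← Ideal.map_map]; exact Ideal.mem_map_of_mem _ hya
  obtain ⟨j, y, hy, hy1⟩ := hmem 1 h1
  obtain ⟨j', hjj', he⟩ := Ring.DirectLimit.of.zero_exact (show of j (y - 1) = 0 by
    rw [map_sub, hy1, map_one, sub_self])
  rw [map_sub, map_one, sub_eq_zero] at he
  have h2 : (1 : G j') ∈ m.map (algebraMap R (G j')) := by
    rw [← he, ← hcompat j j' hjj', ← Ideal.map_map]; exact Ideal.mem_map_of_mem _ hy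
  refine (hG j').submodule_ne_top hm ?_
  rw [Ideal.smul_top_eq_map, eq_top_iff]
  intro t _
  have := Ideal.mul_mem_left _ t h2
  rwa [mul_one] at this

end Groth.Agent.CAlgMisc
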