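import Mathlib

/-!
Power series over a Noetherian normal domain form a normal domain.
-/

namespace Groth.Agent.CAlgMisc

universe u

open PowerSeries

theorem mem_range_of_almostIntegral {R : Type u} [CommRing R] [IsDomain R] [IsNoetherianRing R]
    [IsIntegrallyClosed R] (q : PowerSeries (FractionRing R))
    (hq : ∃ d : PowerSeries R, d ≠ 0 ∧ ∀ n : ℕ, ∃ c : PowerSeries R,
      PowerSeries.map (algebraMap R (FractionRing R)) c =
        PowerSeries.map (algebraMap R (FractionRing R)) d * q ^ n) :
    ∃ r : PowerSeries R, PowerSeries.map (algebraMap R (FractionRing R)) r = q := by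
  classical
  let K := FractionRing R
  let φ := PowerSeries.map (algebraMap R K)
  letI : Algebra (PowerSeries R) (PowerSeries K) := φ.toAlgebra
  have hq' : IsAlmostIntegral (PowerSeries R) q := by
    obtain ⟨d, hd, hc⟩ := hq
    exact ⟨d, mem_nonZeroDivisors_of_ne_zero hd, hc⟩
  suffices ∀ i, ∃ r : R, algebraMap R K r = coeff i q by
    choose r hr using this
    exact ⟨PowerSeries.mk r, PowerSeries.ext fun i => by rw [coeff_map, coeff_mk, hr]⟩
  intro i
  induction i using Nat.strong_induction_on with
  | _ i IH =>
    choose r hr using IH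
    let t : PowerSeries R := PowerSeries.mk fun j => if h : j < i then r j h else 0
    have hq'' : IsAlmostIntegral (PowerSeries R) (q - φ t) :=
      (completeIntegralClosure (PowerSeries R) (PowerSeries K)).sub_mem hq'
        ((completeIntegralClosure (PowerSeries R) (PowerSeries K)).algebraMap_mem t)
    have hdvd : (X : PowerSeries K) ^ i ∣ q - φ t := X_pow_dvd_iff.2 fun j hj => by
      rw [map_sub, coeff_map, coeff_mk, dif_pos hj, hr, sub_self]
    obtain ⟨w, hw⟩ := hdvd
    have hwi : coeff i q = constantCoeff w := by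
      have h := congrArg (coeff i) hw
      rw [map_sub, coeff_map, coeff_mk, dif_neg (lt_irrefl i), map_zero, sub_zero,
        show coeff i ((X : PowerSeries K) ^ i * w) = coeff (0 + i) ((X : PowerSeries K) ^ i * w) by rw [zero_add],
        coeff_X_pow_mul, coeff_zero_eq_constantCoeff_apply] at h
      exact h
    obtain ⟨d, hd, hdn⟩ := hq''
    have hd0 : d ≠ 0 := nonZeroDivisors.ne_zero hd
    have hex : ∃ e, coeff e d ≠ 0 := by
      by_contra! h
      exact hd0 (PowerSeries.ext fun n => by rw [h, map_zero])
    set e := Nat.find hex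
    obtain ⟨d', hd'⟩ : (X : PowerSeries R) ^ e ∣ d :=
      X_pow_dvd_iff.2 fun j hj => by by_contra h; exact Nat.find_min hex hj h
    have hde : constantCoeff d' ≠ 0 := by
      have h : coeff e d ≠ 0 := Nat.find_spec hex
      rw [hd', show coeff e ((X : PowerSeries R) ^ e * d') = coeff (0 + e) ((X : PowerSeries R) ^ e * d') by
        rw [zero_add], coeff_X_pow_mul, coeff_zero_eq_constantCoeff_apply] at h
      exact h
    have hint : IsIntegral R (constantCoeff w) := by
      refine IsAlmostIntegral.isIntegral ⟨constantCoeff d', mem_nonZeroDivisors_of_ne_zero hde, fun n => ?_⟩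
      obtain ⟨c, hc⟩ := hdn n
      have h1 : φ c = (X : PowerSeries K) ^ (e + i * n) * (φ d' * w ^ n) := by
        rw [show φ c = algebraMap (PowerSeries R) (PowerSeries K) c from rfl, hc, Algebra.smul_def,
          RingHom.algebraMap_toAlgebra, hw, hd', map_mul, map_pow, PowerSeries.map_X]
        ring
      refine ⟨coeff (e + i * n) c, ?_⟩
      have h2 := congrArg (coeff (e + i * n)) h1
      rw [coeff_map, show coeff (e + i * n) ((X : PowerSeries K) ^ (e + i * n) * (φ d' * w ^ n)) =
        coeff (0 + (e + i * n)) ((X : PowerSeries K) ^ (e + i * n) * (φ d' * w ^ n)) by rw [zero_add],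
        coeff_X_pow_mul, coeff_zero_eq_constantCoeff_apply, map_mul, map_pow, show constantCoeff (φ d') = algebraMap R K (constantCoeff d') by
          rw [← coeff_zero_eq_constantCoeff_apply, ← coeff_zero_eq_constantCoeff_apply, coeff_map]] at h2
      rw [Algebra.smul_def]
      exact h2
    obtain ⟨z, hz⟩ := IsIntegrallyClosed.isIntegral_iff.1 hint
    exact ⟨z, hz.trans hwi.symm⟩

theorem isIntegrallyClosed_powerSeries (R : Type u) [CommRing R] [IsDomain R] [IsNoetherianRing R]
    [IsIntegrallyClosed R] : IsIntegrallyClosed (PowerSeries R) := by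
  let A := PowerSeries R
  let B := PowerSeries (FractionRing R)
  let φ : A →+* B := PowerSeries.map (algebraMap R (FractionRing R))
  have hφ : Function.Injective φ := fun a b h => PowerSeries.ext fun n => by
    have := congrArg (coeff n) h
    rw [coeff_map, coeff_map] at this
    exact IsFractionRing.injective R (FractionRing R) this
  haveI : IsIntegrallyClosed B := inferInstance
  let KA := FractionRing A
  let KB := FractionRing B
  let Φ : KA →+* KB := IsFractionRing.lift (A := A) (g := (algebraMap B KB).comp φ)
    ((IsFractionRing.injective B KB).comp hφ)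
  have hΦ : ∀ a, Φ (algebraMap A KA a) = algebraMap B KB (φ a) := fun a => IsFractionRing.lift_algebraMap _ a
  refine (isIntegrallyClosed_iff KA).2 fun {x} hx => ?_
  obtain ⟨d, hd, hdn⟩ := hx.isAlmostIntegral
  obtain ⟨P, hP, hPx⟩ := hx
  have hxB : IsIntegral B (Φ x) := by
    refine ⟨P.map φ, hP.map φ, ?_⟩
    have h := congrArg Φ hPx
    rw [Polynomial.hom_eval₂, map_zero, show Φ.comp (algebraMap A KA) = (algebraMap B KB).comp φ from RingHom.ext hΦ] at h
    rw [Polynomial.eval₂_map]
    exact h
  obtain ⟨q, hq⟩ := IsIntegrallyClosed.isIntegral_iff.1 hxB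
  obtain ⟨r, hr⟩ := mem_range_of_almostIntegral q ⟨d, nonZeroDivisors.ne_zero hd, fun n => by
    obtain ⟨c, hc⟩ := hdn n
    refine ⟨c, IsFractionRing.injective B KB ?_⟩
    rw [Algebra.smul_def] at hc
    rw [map_mul, map_pow, hq, ← hΦ, ← hΦ, hc, map_mul, map_pow]⟩
  exact ⟨r, Φ.injective (by rw [hΦ, show φ r = q from hr, hq])⟩

end Groth.Agent.CAlgMisc
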