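import Mathlib

/-!
Resolutions of finite modules over Noetherian rings by finite free modules.
-/

namespace Groth.Agent.CAlgMisc

open CategoryTheory CategoryTheory.Limits

universe u

variable {R : Type u} [CommRing R]

/-- The finite free module of rank `n`. -/
abbrev freeMod (R : Type u) [CommRing R] (n : ℕ) : ModuleCat.{u} R := ModuleCat.of R (Fin n → R)

theorem exists_cover (N : ModuleCat.{u} R) :
    ∃ (n : ℕ) (f : freeMod R n ⟶ N), Module.Finite R N → Epi f := by
  by_cases h : Module.Finite R N
  · obtain ⟨n, f, hf⟩ := Module.Finite.exists_fin' R N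
    exact ⟨n, ModuleCat.ofHom f, fun _ => (ModuleCat.epi_iff_surjective _).2 hf⟩
  · exact ⟨0, 0, fun h' => absurd h' h⟩

/-- Rank of the chosen free cover. -/
noncomputable def covRk (N : ModuleCat.{u} R) : ℕ := (exists_cover N).choose

/-- The chosen free cover. -/
noncomputable def covMap (N : ModuleCat.{u} R) : freeMod R (covRk N) ⟶ N :=
  (exists_cover N).choose_spec.choose

theorem covMap_epi (N : ModuleCat.{u} R) [Module.Finite R N] : Epi (covMap N) :=
  (exists_cover N).choose_spec.choose_spec inferInstance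

theorem finite_kernel [IsNoetherianRing R] {X Y : ModuleCat.{u} R} [Module.Finite R X] (f : X ⟶ Y) :
    Module.Finite R (kernel f : ModuleCat.{u} R) :=
  Module.Finite.of_injective (kernel.ι f).hom ((ModuleCat.mono_iff_injective _).1 inferInstance)

/-- The next differential. -/
noncomputable def dCov {X Y : ModuleCat.{u} R} (f : X ⟶ Y) : freeMod R (covRk (kernel f)) ⟶ X :=
  covMap (kernel f) ≫ kernel.ι f

theorem dCov_comp {X Y : ModuleCat.{u} R} (f : X ⟶ Y) : dCov f ≫ f = 0 := by
  rw [dCov, Category.assoc, kernel.condition, comp_zero]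

theorem exact_dCov [IsNoetherianRing R] {X Y : ModuleCat.{u} R} (f : X ⟶ Y) (hX : Module.Finite R X) :
    (ShortComplex.mk (dCov f) f (dCov_comp f)).Exact := by
  haveI := hX
  haveI := finite_kernel f
  haveI := covMap_epi (kernel f)
  let φ : ShortComplex.mk (dCov f) f (dCov_comp f) ⟶ ShortComplex.mk (kernel.ι f) f (kernel.condition f) :=
    { τ₁ := covMap (kernel f)
      τ₂ := 𝟙 _
      τ₃ := 𝟙 _
      comm₁₂ := by simp [dCov]
      comm₂₃ := by simp }
  haveI : Epi φ.τ₁ := ‹Epi (covMap (kernel f))›
  haveI : IsIso φ.τ₂ := inferInstanceAs (IsIso (𝟙 X))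
  haveI : Mono φ.τ₃ := inferInstanceAs (Mono (𝟙 Y))
  rw [ShortComplex.exact_iff_of_epi_of_isIso_of_mono φ]
  exact ShortComplex.exact_of_f_is_kernel _ (kernelIsKernel f)

/-- The resolution complex. -/
noncomputable def freeCx (M : ModuleCat.{u} R) : ChainComplex (ModuleCat.{u} R) ℕ :=
  ChainComplex.mk' (freeMod R (covRk M)) (freeMod R (covRk (kernel (covMap M)))) (dCov (covMap M))
    (fun f => ⟨_, dCov f, dCov_comp f⟩)

theorem freeCx_X (M : ModuleCat.{u} R) (n : ℕ) : ∃ m, (freeCx M).X n = freeMod R m := by
  obtain (_ | _ | _ | n) := n <;> exact ⟨_, rfl⟩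

theorem freeCx_finite (M : ModuleCat.{u} R) (n : ℕ) :
    Module.Finite R ((freeCx M).X n) ∧ Module.Free R ((freeCx M).X n) := by
  obtain ⟨m, hm⟩ := freeCx_X M n
  rw [hm]
  exact ⟨(inferInstance : Module.Finite R (Fin m → R)), (inferInstance : Module.Free R (Fin m → R))⟩

theorem freeCx_projective (M : ModuleCat.{u} R) (n : ℕ) : Projective ((freeCx M).X n) := by
  haveI := (freeCx_finite M n).2
  rw [← IsProjective.iff_projective]
  exact Module.Projective.of_free

theorem freeCx_d_1_0 (M : ModuleCat.{u} R) : (freeCx M).d 1 0 = dCov (covMap M) := by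
  simp [freeCx]

set_option backward.isDefEq.respectTransparency.types false in
theorem freeCx_exactAt_succ [IsNoetherianRing R] (M : ModuleCat.{u} R) (n : ℕ) :
    (freeCx M).ExactAt (n + 1) := by
  rw [HomologicalComplex.exactAt_iff' _ (n + 1 + 1) (n + 1) n (by simp) (by simp)]
  simp only [HomologicalComplex.sc', HomologicalComplex.shortComplexFunctor', freeCx,
    ChainComplex.mk', ChainComplex.mk, ChainComplex.of_d]
  match n with
  | 0 =>
    apply exact_dCov
    exact (freeCx_finite M 1).1
  | 1 =>
    apply exact_dCov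
    exact (freeCx_finite M 2).1
  | n + 2 =>
    apply exact_dCov
    exact (freeCx_finite M (n + 3)).1

set_option backward.isDefEq.respectTransparency false in
theorem exists_finite_free_resolution [IsNoetherianRing R] (M : ModuleCat.{u} R) [Module.Finite R M] :
    ∃ F : ProjectiveResolution M, ∀ n : ℕ, Module.Finite R (F.complex.X n) ∧ Module.Free R (F.complex.X n) := by
  haveI := covMap_epi M
  haveI : ∀ n, Projective ((freeCx M).X n) := freeCx_projective M
  refine ⟨{ complex := freeCx M
            projective := freeCx_projective M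
            π := (ChainComplex.toSingle₀Equiv _ _).symm ⟨covMap M, by rw [freeCx_d_1_0, dCov_comp]⟩
            quasiIso := ⟨fun n => ?_⟩ }, freeCx_finite M⟩
  cases n
  · rw [ChainComplex.quasiIsoAt₀_iff, ShortComplex.quasiIso_iff_of_zeros']
    · refine (ShortComplex.exact_and_epi_g_iff_of_iso ?_).2 ⟨exact_dCov (covMap M) (inferInstance : Module.Finite R (Fin _ → R)), ‹Epi (covMap M)›⟩
      exact ShortComplex.isoMk (Iso.refl _) (Iso.refl _) (Iso.refl _) (by simp [freeCx]) (by simp)
    all_goals rfl
  · rw [quasiIsoAt_iff_exactAt']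
    · apply freeCx_exactAt_succ
    · apply ChainComplex.exactAt_succ_single_obj

end Groth.Agent.CAlgMisc
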