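import Mathlib

/-!
Field extensions in which every element has a power in the base field.
-/

namespace Groth.Agent.CAlgMisc

universe u

variable {k k' : Type u} [Field k] [Field k'] [Algebra k k']

local notation "Ω" => AlgebraicClosure k'

theorem exists_ratio (hpow : ∀ x : k', ∃ n : ℕ, 0 < n ∧ x ^ n ∈ Set.range (algebraMap k k')) {x : k'}
    (hsep : IsSeparable k x) (hx : x ∉ Set.range (algebraMap k k')) :
    ∃ y : Ω, y ≠ algebraMap k' Ω x ∧ ∀ c : k, ∃ ζ : Ω, (∃ n : ℕ, 0 < n ∧ ζ ^ n = 1) ∧ ζ ≠ 1 ∧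
      y + algebraMap k Ω c = ζ * (algebraMap k' Ω x + algebraMap k Ω c) := by
  classical
  have hint : IsIntegral k x := hsep.isIntegral
  have hdeg : 2 ≤ (minpoly k x).natDegree := (minpoly.two_le_natDegree_iff hint).2 hx
  have hcard : Fintype.card ((minpoly k x).rootSet Ω) = (minpoly k x).natDegree :=
    Polynomial.card_rootSet_eq_natDegree hsep (IsAlgClosed.splits _)
  obtain ⟨⟨y, hy⟩, hne⟩ : ∃ y : (minpoly k x).rootSet Ω, (y : Ω) ≠ algebraMap k' Ω x := by
    by_contra h
    push Not at h
    have : Fintype.card ((minpoly k x).rootSet Ω) ≤ 1 :=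
      Fintype.card_le_one_iff.2 fun a b => Subtype.ext ((h a).trans (h b).symm)
    omega
  refine ⟨y, hne, fun c => ?_⟩
  obtain ⟨n, hn, a, ha⟩ := hpow (x + algebraMap k k' c)
  have hyroot : Polynomial.aeval y (minpoly k x) = 0 := (Polynomial.mem_rootSet.1 hy).2
  have hdvd : minpoly k x ∣ (Polynomial.X + Polynomial.C c) ^ n - Polynomial.C a := minpoly.dvd k x (by
    rw [map_sub, map_pow, map_add, Polynomial.aeval_X, Polynomial.aeval_C, Polynomial.aeval_C, ha, sub_self])
  have h0 := Polynomial.aeval_eq_zero_of_dvd_aeval_eq_zero hdvd hyroot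
  rw [map_sub, map_pow, map_add, Polynomial.aeval_X, Polynomial.aeval_C, Polynomial.aeval_C, sub_eq_zero] at h0
  have hX : algebraMap k' Ω x + algebraMap k Ω c ≠ 0 := by
    rw [IsScalarTower.algebraMap_apply k k' Ω, ← map_add]
    intro h
    have h1 := (algebraMap k' Ω).injective (h.trans (map_zero _).symm)
    exact hx ⟨-c, by rw [map_neg]; exact neg_eq_of_add_eq_zero_left h1⟩
  have hXn : (algebraMap k' Ω x + algebraMap k Ω c) ^ n = algebraMap k Ω a := by
    rw [IsScalarTower.algebraMap_apply k k' Ω c, ← map_add, ← map_pow, ← ha, ← IsScalarTower.algebraMap_apply]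
  refine ⟨(y + algebraMap k Ω c) / (algebraMap k' Ω x + algebraMap k Ω c), ⟨n, hn, ?_⟩, ?_, (div_mul_cancel₀ _ hX).symm⟩
  · rw [div_pow, h0, hXn, div_self]
    rw [← hXn]
    exact pow_ne_zero _ hX
  · rw [Ne, div_eq_one_iff_eq hX]
    exact fun h => hne (add_right_cancel h)

theorem isIntegral_of_pow_eq_one {A B : Type*} [CommRing A] [CommRing B] [Algebra A B] {ζ : B} {n : ℕ}
    (hn : 0 < n) (h : ζ ^ n = 1) : IsIntegral A ζ :=
  IsIntegral.of_pow hn (by rw [h]; exact isIntegral_one)

theorem not_charZero_of_separable (hpow : ∀ x : k', ∃ n : ℕ, 0 < n ∧ x ^ n ∈ Set.range (algebraMap k k'))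
    [CharZero k'] {x : k'} (hsep : IsSeparable k x) (hx : x ∉ Set.range (algebraMap k k')) : False := by
  classical
  haveI : CharZero Ω := charZero_of_injective_algebraMap (algebraMap k' Ω).injective
  obtain ⟨y, hne, hζ⟩ := exists_ratio hpow hsep hx
  set X := algebraMap k' Ω x
  choose ζ hζn hζ1 hζeq using hζ
  have h01 := hζeq 1
  have h00 := hζeq 0
  rw [map_one] at h01
  rw [map_zero, add_zero, add_zero] at h00
  have hXeq : X * (ζ 0 - ζ 1) = ζ 1 - 1 := by rw [mul_sub, mul_comm X (ζ 0), ← h00]; linear_combination h01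
  have hd : ζ 0 - ζ 1 ≠ 0 := fun h => hζ1 1 (sub_eq_zero.1 (by rw [← hXeq, h, mul_zero]))
  have hXmem : X ∈ IntermediateField.adjoin ℚ ({ζ 0, ζ 1} : Set Ω) := by
    rw [show X = (ζ 1 - 1) / (ζ 0 - ζ 1) from eq_div_of_mul_eq hd hXeq]
    exact div_mem (sub_mem (IntermediateField.subset_adjoin _ _ (by simp)) (one_mem _))
      (sub_mem (IntermediateField.subset_adjoin _ _ (by simp)) (IntermediateField.subset_adjoin _ _ (by simp)))
  set F := IntermediateField.adjoin ℚ ({ζ 0, ζ 1} : Set Ω)
  haveI : FiniteDimensional ℚ F := IntermediateField.finiteDimensional_adjoin fun z hz => by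
    rcases hz with rfl | rfl
    · obtain ⟨n, hn, h⟩ := hζn 0; exact isIntegral_of_pow_eq_one hn h
    · obtain ⟨n, hn, h⟩ := hζn 1; exact isIntegral_of_pow_eq_one hn h
  haveI : NumberField F := { }
  have hymem : y ∈ F := by rw [h00]; exact mul_mem (IntermediateField.subset_adjoin _ _ (by simp)) hXmem
  have hc : ∀ m : ℕ, ζ (m : k) ∈ F := fun m => by
    have h := hζeq (m : k)
    rw [map_natCast] at h
    have hne0 : X + (m : Ω) ≠ 0 := fun h0 => by
      rw [show X + (m : Ω) = algebraMap k' Ω (x + (m : k')) by rw [map_add, map_natCast]] at h0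
      have h1 := (algebraMap k' Ω).injective (h0.trans (map_zero _).symm)
      exact hx ⟨-(m : k), by rw [map_neg, map_natCast]; exact neg_eq_of_add_eq_zero_left h1⟩
    rw [eq_div_of_mul_eq hne0 h.symm]
    exact div_mem (add_mem hymem (natCast_mem F m)) (add_mem hXmem (natCast_mem F m))
  let g : ℕ → F := fun m => ⟨ζ (m : k), hc m⟩
  have hg : Function.Injective g := by
    intro a b hab
    have hab' : ζ (a : k) = ζ (b : k) := congrArg Subtype.val hab
    have ha := hζeq (a : k)
    have hb := hζeq (b : k)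
    rw [map_natCast] at ha hb
    rw [← hab'] at hb
    have : ((a : Ω) - b) * (1 - ζ (a : k)) = 0 := by linear_combination ha - hb
    exact Nat.cast_injective (sub_eq_zero.1 ((mul_eq_zero.1 this).resolve_right
      (sub_ne_zero.2 (Ne.symm (hζ1 _)))))
  refine Set.infinite_range_of_injective hg ((NumberField.Embeddings.finite_of_norm_le F ℂ 1).subset ?_)
  rintro _ ⟨m, rfl⟩
  obtain ⟨n, hn, h⟩ := hζn (m : k)
  have h' : g m ^ n = 1 := Subtype.ext h
  exact ⟨isIntegral_of_pow_eq_one hn h', fun φ => le_of_eq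
    (Complex.norm_eq_one_of_pow_eq_one (by rw [← map_pow, h', map_one]) hn.ne')⟩

theorem isAlgebraic_zmod (hpow : ∀ x : k', ∃ n : ℕ, 0 < n ∧ x ^ n ∈ Set.range (algebraMap k k'))
    (p : ℕ) [Fact p.Prime] [CharP k' p] [Algebra (ZMod p) k'] {x : k'}
    (hsep : IsSeparable k x) (hx : x ∉ Set.range (algebraMap k k')) : Algebra.IsAlgebraic (ZMod p) k' := by
  haveI : CharP k p := (algebraMap k k').charP (algebraMap k k').injective p
  letI : Algebra (ZMod p) k := ZMod.algebra k p
  haveI : IsScalarTower (ZMod p) k k' := IsScalarTower.of_algebraMap_eq' (Subsingleton.elim _ _)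
  haveI : CharP Ω p := charP_of_injective_algebraMap (algebraMap k' Ω).injective p
  haveI : IsScalarTower (ZMod p) k Ω := IsScalarTower.of_algebraMap_eq' (Subsingleton.elim _ _)
  obtain ⟨y, hne, hζ⟩ := exists_ratio hpow hsep hx
  set X := algebraMap k' Ω x
  choose ζ hζn hζ1 hζeq using hζ
  have hmem : ∀ c, ζ c ∈ algebraicClosure (ZMod p) Ω := fun c => by
    obtain ⟨n, hn, h⟩ := hζn c
    exact (mem_algebraicClosure_iff).2 (isIntegral_of_pow_eq_one hn h).isAlgebraic
  have h01 := hζeq 1
  have h00 := hζeq 0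
  rw [map_one] at h01
  rw [map_zero, add_zero, add_zero] at h00
  have hXeq : X * (ζ 0 - ζ 1) = ζ 1 - 1 := by rw [mul_sub, mul_comm X (ζ 0), ← h00]; linear_combination h01
  have hd : ζ 0 - ζ 1 ≠ 0 := fun h => hζ1 1 (sub_eq_zero.1 (by rw [← hXeq, h, mul_zero]))
  have hXmem : X ∈ algebraicClosure (ZMod p) Ω := by
    rw [show X = (ζ 1 - 1) / (ζ 0 - ζ 1) from eq_div_of_mul_eq hd hXeq]
    exact div_mem (sub_mem (hmem _) (one_mem _)) (sub_mem (hmem _) (hmem _))
  have hk : Algebra.IsAlgebraic (ZMod p) k := ⟨fun c => by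
    rw [← isAlgebraic_algebraMap_iff (A := Ω) (algebraMap k Ω).injective, ← mem_algebraicClosure_iff]
    have h := hζeq c
    rw [eq_div_of_mul_eq (sub_ne_zero.2 (Ne.symm (hζ1 c)))
      (show algebraMap k Ω c * (1 - ζ c) = ζ c * X - y by linear_combination h)]
    refine div_mem (sub_mem (mul_mem (hmem _) hXmem) ?_) (sub_mem (one_mem _) (hmem _))
    rw [h00]
    exact mul_mem (hmem _) hXmem⟩
  haveI : Algebra.IsAlgebraic k k' := ⟨fun z => by
    obtain ⟨n, hn, a, ha⟩ := hpow z
    exact (IsIntegral.of_pow hn (ha ▸ isIntegral_algebraMap)).isAlgebraic⟩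
  exact Algebra.IsAlgebraic.trans (ZMod p) k k'

theorem pow_mem_range_iff :
    (∀ x : k', ∃ n : ℕ, 0 < n ∧ x ^ n ∈ Set.range (algebraMap k k')) ↔
      Function.Surjective (algebraMap k k') ∨
        ∃ p : ℕ, p.Prime ∧ CharP k' p ∧
          (IsPurelyInseparable k k' ∨ Algebra.IsAlgebraic (⊥ : Subfield k') k') := by
  classical
  constructor
  · intro hpow
    by_cases hs : Function.Surjective (algebraMap k k')
    · exact Or.inl hs
    refine Or.inr ?_
    have hint : ∀ z : k', IsIntegral k z := fun z => by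
      obtain ⟨n, hn, a, ha⟩ := hpow z
      exact IsIntegral.of_pow hn (ha ▸ isIntegral_algebraMap)
    obtain ⟨p, hp⟩ := CharP.exists k'
    rcases CharP.char_is_prime_or_zero k' p with hprime | rfl
    · refine ⟨p, hprime, hp, ?_⟩
      by_cases hall : ∀ x : k', IsSeparable k x → x ∈ Set.range (algebraMap k k')
      · exact Or.inl (isPurelyInseparable_iff.2 fun x => ⟨hint x, hall x⟩)
      push Not at hall
      obtain ⟨x, hsep, hx⟩ := hall
      haveI : Fact p.Prime := ⟨hprime⟩
      letI : Algebra (ZMod p) k' := ZMod.algebra k' p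
      have h := isAlgebraic_zmod hpow p hsep hx
      refine Or.inr ?_
      let φ : ZMod p →+* (⊥ : Subfield k') :=
        (algebraMap (ZMod p) k').codRestrict (⊥ : Subfield k') fun z => by
          obtain ⟨m, rfl⟩ := ZMod.intCast_surjective z
          rw [map_intCast]
          exact intCast_mem _ m
      refine ⟨fun z => ?_⟩
      obtain ⟨q, hq, hqz⟩ := (h.isAlgebraic z).isIntegral
      have hint' : IsIntegral (⊥ : Subfield k') z := ⟨q.map φ, hq.map φ, by
        rw [Polynomial.eval₂_map]; exact hqz⟩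
      exact hint'.isAlgebraic
    · exfalso
      haveI : CharZero k' := CharP.charP_to_charZero k'
      haveI : CharZero k := (algebraMap k k').charZero
      obtain ⟨x, hx⟩ := not_forall.1 hs
      exact not_charZero_of_separable hpow (x := x)
        (Irreducible.separable (minpoly.irreducible (hint x))) hx
  · rintro (hs | ⟨p, hp, hchar, hins | halg⟩) x
    · exact ⟨1, one_pos, by rw [pow_one]; exact hs x⟩
    · haveI : CharP k p := (algebraMap k k').charP (algebraMap k k').injective p
      haveI : ExpChar k p := .prime hp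
      obtain ⟨n, hn⟩ := (isPurelyInseparable_iff_pow_mem k p).1 hins x
      exact ⟨p ^ n, pow_pos hp.pos n, hn⟩
    · haveI : Fact p.Prime := ⟨hp⟩
      haveI hfin : Finite (⊥ : Subfield k') := by
        refine Finite.of_surjective (fun z : ZMod p => ⟨ZMod.castHom dvd_rfl k' z, ?_⟩) fun w => ?_
        · obtain ⟨m, rfl⟩ := ZMod.intCast_surjective z
          rw [map_intCast]
          exact intCast_mem _ m
        · have hw : (⊥ : Subfield k') ≤ (ZMod.castHom dvd_rfl k' : ZMod p →+* k').fieldRange := bot_le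
          obtain ⟨z, hz⟩ := hw w.2
          exact ⟨z, Subtype.ext hz⟩
      by_cases hx : x = 0
      · exact ⟨1, one_pos, 0, by rw [hx, pow_one, map_zero]⟩
      haveI : FiniteDimensional (⊥ : Subfield k') (IntermediateField.adjoin (⊥ : Subfield k') ({x} : Set k')) :=
        IntermediateField.adjoin.finiteDimensional (halg.isAlgebraic x).isIntegral
      haveI : Finite (IntermediateField.adjoin (⊥ : Subfield k') ({x} : Set k')) :=
        Module.finite_of_finite (⊥ : Subfield k')
      letI := Fintype.ofFinite (IntermediateField.adjoin (⊥ : Subfield k') ({x} : Set k'))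
      let x' : IntermediateField.adjoin (⊥ : Subfield k') ({x} : Set k') :=
        ⟨x, IntermediateField.mem_adjoin_simple_self _ x⟩
      have h := FiniteField.pow_card_sub_one_eq_one x' (fun h => hx (congrArg Subtype.val h))
      refine ⟨Fintype.card (IntermediateField.adjoin (⊥ : Subfield k') ({x} : Set k')) - 1,
        Nat.sub_pos_of_lt Fintype.one_lt_card, 1, ?_⟩
      rw [map_one]
      exact (congrArg Subtype.val h).symm

end Groth.Agent.CAlgMisc
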