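import Mathlib
import Groth.Prelude.Def_Found

/-!
Assorted small facts of commutative algebra.
-/

namespace Groth.Agent.CAlgMisc

universe u

open TensorProduct

theorem finite_spec_of_finite_basicOpen {A : Type u} [CommRing A] [IsDomain A] [IsNoetherianRing A]
    {x : A} (hx : x ≠ 0) (hfin : {q : PrimeSpectrum A | x ∉ q.asIdeal}.Finite) :
    (∀ P : Ideal A, P.IsPrime → P.height ≤ 1) ∧ Finite (PrimeSpectrum A) := by
  classical
  have hmin := Ideal.finite_minimalPrimes_of_isNoetherianRing A (Ideal.span {x})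
  let S : Set (Ideal A) := {q | q.IsPrime ∧ q.height ≤ 1 ∧ (x ∉ q ∨ q ∈ (Ideal.span {x}).minimalPrimes)}
  have hS : S.Finite :=
    ((hfin.image PrimeSpectrum.asIdeal).union hmin).subset fun q hq =>
      hq.2.2.elim (fun h => Or.inl ⟨⟨q, hq.1⟩, h, rfl⟩) Or.inr
  have hP : ∀ P : Ideal A, P.IsPrime → P.height ≤ 1 := by
    intro P hP
    have hsub : (P : Set A) ⊆ {0} ∪ ⋃ q ∈ S, (q : Set A) := by
      intro a ha
      by_cases ha0 : a = 0
      · exact Or.inl ha0
      obtain ⟨q, hq, -⟩ := Ideal.exists_minimalPrimes_le (I := Ideal.span {a}) (J := P)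
        ((Ideal.span_singleton_le_iff_mem _).2 ha)
      haveI := hq.1.1
      have hq1 : q.height ≤ 1 := Ideal.height_le_one_of_isPrincipal_of_mem_minimalPrimes (Ideal.span {a}) q hq
      refine Or.inr (Set.mem_biUnion (x := q) ⟨hq.1.1, hq1, ?_⟩ (hq.1.2 (Ideal.subset_span rfl)))
      by_cases hxq : x ∈ q
      · refine Or.inr ⟨⟨hq.1.1, (Ideal.span_singleton_le_iff_mem _).2 hxq⟩, fun q' hq' hle => ?_⟩
        by_contra hne
        haveI := hq'.1
        have hlt : q' < q := lt_of_le_of_ne hle fun e => hne e.ge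
        have h1 := Ideal.height_strict_mono_of_isPrime hlt
        have h0 : q'.height = 0 := ENat.lt_one_iff_eq_zero.1 (h1.trans_le hq1)
        rw [Ideal.height_eq_zero_iff, IsDomain.minimalPrimes_eq_singleton_bot] at h0
        exact hx (by simpa [Set.mem_singleton_iff.1 h0] using hq'.2 (Ideal.subset_span rfl))
      · exact Or.inl hxq
    have hsub' : (P : Set A) ⊆ ⋃ q ∈ (insert (⊥ : Ideal A) S), (q : Set A) := fun a ha => by
      rcases hsub ha with h | h
      · exact Set.mem_biUnion (Set.mem_insert _ _) (by rw [Set.mem_singleton_iff.1 h]; exact zero_mem _)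
      · obtain ⟨q, hq, haq⟩ := Set.mem_iUnion₂.1 h
        exact Set.mem_biUnion (Set.mem_insert_of_mem _ hq) haq
    obtain ⟨q, hq, hle⟩ := (Ideal.subset_union_prime_finite (hS.insert (⊥ : Ideal A)) (f := id) ⊥ ⊥
      (fun q hq _ _ => (Set.mem_insert_iff.1 hq).elim (fun h => h ▸ Ideal.isPrime_bot) fun h => h.1)).1 hsub'
    refine (Ideal.height_mono (J := q) hle).trans ?_
    rcases Set.mem_insert_iff.1 hq with rfl | h
    · rw [Ideal.height_bot]; exact zero_le_one
    · exact h.2.1
  refine ⟨hP, Set.finite_univ_iff.1 ((((hfin.image PrimeSpectrum.asIdeal).union hmin).preimage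
    (fun a _ b _ h => PrimeSpectrum.ext h)).subset fun q _ => ?_)⟩
  by_cases hxq : x ∈ q.asIdeal
  · refine Or.inr ⟨⟨q.2, (Ideal.span_singleton_le_iff_mem _).2 hxq⟩, fun q' hq' hle => ?_⟩
    by_contra hne
    haveI := hq'.1
    have h1 := Ideal.height_strict_mono_of_isPrime (lt_of_le_of_ne hle fun e => hne e.ge)
    have h0 : q'.height = 0 := ENat.lt_one_iff_eq_zero.1 (h1.trans_le (hP _ q.2))
    rw [Ideal.height_eq_zero_iff, IsDomain.minimalPrimes_eq_singleton_bot] at h0
    exact hx (by simpa [Set.mem_singleton_iff.1 h0] using hq'.2 (Ideal.subset_span rfl))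
  · exact Or.inl ⟨q, hxq, rfl⟩

theorem infinite_of_isOpen {R : Type u} [CommRing R] [IsDomain R] [IsLocalRing R] [IsNoetherianRing R]
    (hdim : 2 ≤ ringKrullDim R) (U : Set (PrimeSpectrum R)) (hU : IsOpen U) (hne : U.Nonempty) :
    U.Infinite := by
  intro hfin
  obtain ⟨q, hq⟩ := hne
  obtain ⟨_, ⟨x, rfl⟩, hqx, hxU⟩ :=
    (PrimeSpectrum.isTopologicalBasis_basic_opens).exists_subset_of_mem_open hq hU
  have hx0 : x ≠ 0 := fun h => hqx (h ▸ zero_mem _)
  have h := (finite_spec_of_finite_basicOpen hx0 (hfin.subset fun p hp => hxU hp)).1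
    (IsLocalRing.maximalIdeal R) inferInstance
  rw [← IsLocalRing.maximalIdeal_height_eq_ringKrullDim] at hdim
  exact absurd (hdim.trans (WithBot.coe_le_coe.2 h)) (by decide)

theorem isJacobsonRing_of_infinite {R : Type u} [CommRing R] [IsNoetherianRing R]
    (h : ∀ (p : Ideal R) [p.IsPrime], p.IsMaximal ∨ {q : PrimeSpectrum R | p ≤ q.asIdeal}.Infinite) :
    IsJacobsonRing R := by
  rw [isJacobsonRing_iff_prime_eq]
  intro p
  induction p using (wellFounded_gt (α := Ideal R)).induction with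
  | _ p IH =>
    intro hp
    refine le_antisymm (fun a ha => ?_) Ideal.le_jacobson
    by_contra hap
    rcases h p with hmax | hinf
    · exact hap (Ideal.mem_sInf.1 ha ⟨le_rfl, hmax⟩)
    · have hx0 : Ideal.Quotient.mk p a ≠ 0 := fun h => hap (Ideal.Quotient.eq_zero_iff_mem.1 h)
      have hfin : {q : PrimeSpectrum (R ⧸ p) | Ideal.Quotient.mk p a ∉ q.asIdeal}.Finite := by
        refine (Set.finite_singleton (⟨⊥, Ideal.isPrime_bot⟩ : PrimeSpectrum (R ⧸ p))).subset fun q hq => ?_
        refine Set.mem_singleton_iff.2 (PrimeSpectrum.ext ?_)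
        by_contra hne
        change q.asIdeal ≠ ⊥ at hne
        have hlt : p < q.asIdeal.comap (Ideal.Quotient.mk p) := by
          refine lt_of_le_of_ne (fun r hr => ?_) fun e => hne ?_
          · rw [Ideal.mem_comap, Ideal.Quotient.eq_zero_iff_mem.2 hr]; exact zero_mem _
          · rw [← Ideal.map_comap_of_surjective (Ideal.Quotient.mk p) Ideal.Quotient.mk_surjective q.asIdeal,
              ← e, Ideal.map_quotient_self]
        exact hq (show a ∈ q.asIdeal.comap (Ideal.Quotient.mk p) from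
          (IH _ hlt inferInstance).le (Ideal.jacobson_mono hlt.le ha))
      haveI := (finite_spec_of_finite_basicOpen hx0 hfin).2
      refine hinf (Set.Finite.subset (Set.finite_range (PrimeSpectrum.comap (Ideal.Quotient.mk p))) fun q hq => ?_)
      have hk : RingHom.ker (Ideal.Quotient.mk p) ≤ q.asIdeal := by rw [Ideal.mk_ker]; exact hq
      refine ⟨⟨q.asIdeal.map (Ideal.Quotient.mk p), Ideal.map_isPrime_of_surjective Ideal.Quotient.mk_surjective hk⟩,
        PrimeSpectrum.ext ?_⟩
      show Ideal.comap _ (Ideal.map _ q.asIdeal) = _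
      rw [Ideal.comap_map_of_surjective' _ Ideal.Quotient.mk_surjective, sup_eq_left.2 hk]

theorem swindle (R : Type u) [CommRing R] (P Q : Type u) [AddCommGroup P] [Module R P]
    [AddCommGroup Q] [Module R Q] (ι : Type u) [Infinite ι] (e : (P × Q) ≃ₗ[R] (ι →₀ R)) :
    Nonempty ((P × (ι →₀ R)) ≃ₗ[R] (ι →₀ R)) := by
  obtain ⟨c⟩ : Nonempty (ι ≃ ℕ × ι) := by
    refine Cardinal.lift_mk_eq'.1 ?_
    simp [Cardinal.mk_prod]
  let A : (ι →₀ R) ≃ₗ[R] (ℕ →₀ P) × (ℕ →₀ Q) :=
    (Finsupp.domLCongr c).trans ((Finsupp.finsuppProdLEquiv R).trans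
      ((Finsupp.mapRange.linearEquiv e.symm).trans
        { toFun := fun f => (f.mapRange Prod.fst rfl, f.mapRange Prod.snd rfl)
          invFun := fun g => Finsupp.zipWith Prod.mk rfl g.1 g.2
          map_add' := fun f g => Prod.ext (by ext; simp) (by ext; simp)
          map_smul' := fun r f => Prod.ext (by ext; simp) (by ext; simp)
          left_inv := fun f => by ext <;> simp
          right_inv := fun g => Prod.ext (by ext; simp) (by ext; simp) }))
  let B : (ℕ →₀ P) ≃ₗ[R] P × (ℕ →₀ P) :=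
    (Finsupp.domLCongr (Equiv.natEquivNatSumPUnit.{1}.trans (Equiv.sumComm _ _))).trans
      ((Finsupp.sumFinsuppLEquivProdFinsupp R).trans
        ((Finsupp.LinearEquiv.finsuppUnique R P PUnit).prodCongr (LinearEquiv.refl R _)))
  exact ⟨((LinearEquiv.refl R P).prodCongr A).trans
    ((LinearEquiv.prodAssoc R P (ℕ →₀ P) (ℕ →₀ Q)).symm.trans
      ((B.symm.prodCongr (LinearEquiv.refl R _)).trans A.symm))⟩

theorem exists_free_prod_free (R : Type u) [CommRing R] (P : Type u) [AddCommGroup P]
    [Module R P] [Module.Projective R P] : ∃ ι : Type u, Module.Free R (P × (ι →₀ R)) := by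
  let π : (P →₀ R) →ₗ[R] P := Finsupp.linearCombination R id
  obtain ⟨s, hs⟩ := Module.projective_lifting_property π LinearMap.id
    (fun x => ⟨Finsupp.single x 1, by rw [Finsupp.linearCombination_single, one_smul, id]⟩)
  have hs' : ∀ x, π (s x) = x := fun x => LinearMap.congr_fun hs x
  let e₀ : (P × LinearMap.ker π) ≃ₗ[R] (P →₀ R) :=
    LinearEquiv.ofLinear
      (s.comp (LinearMap.fst R _ _) + (LinearMap.ker π).subtype.comp (LinearMap.snd R _ _))
      (LinearMap.prod π ((LinearMap.id - s.comp π).codRestrict _ fun x => by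
        rw [LinearMap.mem_ker, LinearMap.sub_apply, map_sub, LinearMap.comp_apply, hs']; simp))
      (LinearMap.ext fun x => by simp)
      (LinearMap.ext fun x => by
        refine Prod.ext ?_ (Subtype.ext ?_)
        · simp [hs', show π x.2 = 0 from x.2.2]
        · simp [hs', show π x.2 = 0 from x.2.2])
  let ι := P ⊕ ULift.{u} ℕ
  haveI : Infinite ι := Sum.infinite_of_right
  let e : (P × (LinearMap.ker π × (ULift.{u} ℕ →₀ R))) ≃ₗ[R] (ι →₀ R) :=
    (LinearEquiv.prodAssoc R P _ _).symm.trans ((e₀.prodCongr (LinearEquiv.refl R _)).trans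
      (Finsupp.sumFinsuppLEquivProdFinsupp R).symm)
  obtain ⟨f⟩ := swindle R P (LinearMap.ker π × (ULift.{u} ℕ →₀ R)) ι e
  exact ⟨ι, Module.Free.of_equiv f.symm⟩

theorem isNoetherianRing_tensor_field (k : Type u) [Field k] (R : Type u) [CommRing R] [Algebra k R]
    [IsNoetherianRing R] (K : Type u) [Field K] [Algebra k K] [Algebra.EssFiniteType k K] :
    IsNoetherianRing (K ⊗[k] R) := by
  haveI : IsNoetherianRing (R ⊗[k] K) := Algebra.EssFiniteType.isNoetherianRing R (R ⊗[k] K)
  exact isNoetherianRing_of_ringEquiv (R ⊗[k] K) (Algebra.TensorProduct.comm k R K).toRingEquiv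

theorem isCountablyGenerated_descend (R S : Type u) [CommRing R] [CommRing S] [Algebra R S]
    [Module.FaithfullyFlat R S] (M : Type u) [AddCommGroup M] [Module R M]
    (h : CAlg.IsCountablyGenerated S (S ⊗[R] M)) : CAlg.IsCountablyGenerated R M := by
  classical
  obtain ⟨s, hs, hspan⟩ := h
  choose T hT using fun z : S ⊗[R] M => TensorProduct.exists_finset z
  let T' : Set M := ⋃ z ∈ s, ((T z).image Prod.snd : Finset M)
  refine ⟨T', hs.biUnion fun z _ => (Finset.countable_toSet _), ?_⟩
  let N := Submodule.span R T'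
  have hsurj : Function.Surjective (N.subtype.lTensor S) := by
    intro z
    have hz : z ∈ Submodule.span S s := by rw [hspan]; trivial
    refine (Submodule.span_le (p := LinearMap.range (TensorProduct.AlgebraTensorModule.lTensor S S N.subtype))).2 ?_ hz
    intro w hw
    have hTw := hT w
    rw [hTw]
    refine Submodule.sum_mem _ fun p hp => ?_
    exact ⟨p.1 ⊗ₜ (⟨p.2, Submodule.subset_span (Set.mem_biUnion hw (Finset.mem_coe.2 (Finset.mem_image_of_mem _ hp)))⟩ : N), by simp⟩
  have := (Module.FaithfullyFlat.lTensor_surjective_iff_surjective R S N.subtype).1 hsurj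
  exact eq_top_iff.2 fun x _ => by
    obtain ⟨y, rfl⟩ := this x
    exact y.2

end Groth.Agent.CAlgMisc
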