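import Mathlib
import Groth.Agent.CAlgSerre.NormalImp

/-!
Small commutative algebra lemmas, batch A.
-/

namespace Groth.Agent.CAlgMisc

open scoped TensorProduct

universe u

theorem valuationSubring_comap_ne_top {K L : Type u} [Field K] [Field L] [Algebra K L]
    [Algebra.IsAlgebraic K L] (B : ValuationSubring L) (hB : B ≠ ⊤) :
    B.comap (algebraMap K L) ≠ ⊤ := by
  intro h
  apply hB
  ext x
  refine ⟨fun _ => trivial, fun _ => ?_⟩
  obtain ⟨p, hp, hpx⟩ := Algebra.IsIntegral.isIntegral (R := K) x
  let φ : K →+* B := (algebraMap K L).codRestrict B.toSubring fun k =>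
    (show k ∈ B.comap (algebraMap K L) by rw [h]; trivial)
  have hint : IsIntegral B x := ⟨p.map φ, hp.map φ, by
    rw [Polynomial.eval₂_map]; exact hpx⟩
  obtain ⟨y, rfl⟩ := IsIntegrallyClosed.isIntegral_iff.1 hint
  exact y.2

theorem valuationRing_comap_residue {A' : Type u} [CommRing A'] [IsDomain A'] [ValuationRing A']
    (A : ValuationSubring (IsLocalRing.ResidueField A')) :
    ValuationRing (A.toSubring.comap (IsLocalRing.residue A')) := by
  set C := A.toSubring.comap (IsLocalRing.residue A')
  have key : ∀ (x y : C) (c : A'), (x : A') * c = y → x ∣ y ∨ y ∣ x := by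
    intro x y c hc
    rcases A.mem_or_inv_mem (IsLocalRing.residue A' c) with h | h
    · exact Or.inl ⟨⟨c, h⟩, Subtype.ext hc.symm⟩
    · by_cases hu : IsUnit c
      · obtain ⟨u, rfl⟩ := hu
        refine Or.inr ⟨⟨(u⁻¹ : A'ˣ), ?_⟩, Subtype.ext ?_⟩
        · show IsLocalRing.residue A' ((u⁻¹ : A'ˣ) : A') ∈ A.toSubring
          rw [map_units_inv]
          exact h
        · show (x : A') = (y : A') * ((u⁻¹ : A'ˣ) : A')
          rw [← hc, mul_assoc, Units.mul_inv, mul_one]
      · have h0 : IsLocalRing.residue A' c = 0 := by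
          rw [IsLocalRing.residue_eq_zero_iff]; exact hu
        exact Or.inl ⟨⟨c, show IsLocalRing.residue A' c ∈ A.toSubring by rw [h0]; exact zero_mem _⟩,
          Subtype.ext hc.symm⟩
  rw [ValuationRing.iff_dvd_total]
  refine ⟨fun x y => ?_⟩
  rcases ValuationRing.dvd_total (x : A') (y : A') with ⟨c, hc⟩ | ⟨c, hc⟩
  · exact key x y c hc.symm
  · exact (key y x c hc.symm).symm

theorem isField_localization_minimalPrime {R : Type u} [CommRing R] [IsReduced R] (p : Ideal R) [p.IsPrime]
    (hp : p ∈ minimalPrimes R) : IsField (Localization.AtPrime p) := by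
  rw [← PrimeSpectrum.subsingleton_iff_isField_of_isReduced]
  exact IsLocalization.subsingleton_primeSpectrum_of_mem_minimalPrimes p hp _

theorem exists_notMem_minimalPrimes {R : Type u} [CommRing R] [IsReduced R] {x : R} (hx : x ≠ 0) :
    ∃ p ∈ minimalPrimes R, x ∉ p := by
  by_contra h
  push Not at h
  refine hx (IsReduced.eq_zero x (mem_nilradical.1 ?_))
  rw [nilradical_eq_sInf, Submodule.mem_sInf]
  intro (P : Ideal R) (hP : Ideal.IsPrime P)
  obtain ⟨Q, hQ, hQP⟩ := Ideal.exists_minimalPrimes_le (I := ⊥) (J := P) bot_le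
  exact hQP (h Q hQ)

theorem mem_of_mul_eq_pow {A : Type u} [CommRing A] (x : A) (hx : x ∈ nonZeroDivisors A)
    (hp : (Ideal.span ({x} : Set A)).IsPrime) {s : A} (hs : s ∉ Ideal.span ({x} : Set A)) :
    ∀ (n : ℕ) (a b : A), s * a = x ^ n * b → a ∈ Ideal.span ({x ^ n} : Set A) := by
  intro n
  induction n with
  | zero => intro a b _; simp
  | succ n ih =>
    intro a b h
    have hmem : s * a ∈ Ideal.span ({x} : Set A) :=
      Ideal.mem_span_singleton.2 ⟨x ^ n * b, by rw [h]; ring⟩
    obtain ⟨a', rfl⟩ := Ideal.mem_span_singleton.1 ((hp.mem_or_mem hmem).resolve_left hs)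
    have h' : s * a' = x ^ n * b := (mem_nonZeroDivisors_iff.1 hx).1 _ (by rw [← sub_eq_zero] at h; ring_nf at h ⊢; exact h) |> sub_eq_zero.1
    obtain ⟨d, hd⟩ := Ideal.mem_span_singleton.1 (ih a' b h')
    exact Ideal.mem_span_singleton.2 ⟨d, by rw [hd]; ring⟩

theorem surjective_of_residue_cotangent {A B : Type u} [CommRing A] [CommRing B] [IsLocalRing A]
    [IsLocalRing B] [Algebra A B] [IsLocalHom (algebraMap A B)] [Module.Finite A B]
    (hfg : (IsLocalRing.maximalIdeal B).FG)
    (hres : Function.Surjective (IsLocalRing.ResidueField.map (algebraMap A B)))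
    (hcot : IsLocalRing.maximalIdeal B ≤
      (IsLocalRing.maximalIdeal A).map (algebraMap A B) ⊔ (IsLocalRing.maximalIdeal B) ^ 2) :
    Function.Surjective (algebraMap A B) := by
  have h1 : IsLocalRing.maximalIdeal B ≤ (IsLocalRing.maximalIdeal A).map (algebraMap A B) := by
    refine Submodule.le_of_le_smul_of_le_jacobson_bot (I := IsLocalRing.maximalIdeal B) hfg
      (IsLocalRing.jacobson_eq_maximalIdeal ⊥ bot_ne_top).ge ?_
    rw [smul_eq_mul, ← sq]
    exact hcot
  have h2 : (⊤ : Submodule A B) ≤ LinearMap.range (Algebra.linearMap A B) ⊔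
      IsLocalRing.maximalIdeal A • (⊤ : Submodule A B) := by
    intro b _
    obtain ⟨r, hr⟩ := hres (IsLocalRing.residue B b)
    obtain ⟨a, rfl⟩ := IsLocalRing.residue_surjective r
    rw [IsLocalRing.ResidueField.map_residue] at hr
    have hb : b - algebraMap A B a ∈ IsLocalRing.maximalIdeal B := by
      rw [← IsLocalRing.residue_eq_zero_iff, map_sub, hr, sub_self]
    rw [Submodule.mem_sup]
    refine ⟨algebraMap A B a, ⟨a, rfl⟩, b - algebraMap A B a, ?_, add_sub_cancel _ _⟩
    rw [Ideal.smul_top_eq_map]
    exact h1 hb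
  have h3 := Submodule.le_of_le_smul_of_le_jacobson_bot Module.Finite.fg_top
    (IsLocalRing.jacobson_eq_maximalIdeal (⊥ : Ideal A) bot_ne_top).ge h2
  intro b
  obtain ⟨a, ha⟩ := h3 (Submodule.mem_top (x := b))
  exact ⟨a, ha⟩

theorem annihilator_map_flat {R S : Type u} [CommRing R] [CommRing S] [Algebra R S] [Module.Flat R S]
    {M : Type u} [AddCommGroup M] [Module R M] (m : M) :
    ((Submodule.span R {m}).annihilator).map (algebraMap R S) =
      (Submodule.span S {(1 : S) ⊗ₜ[R] m}).annihilator := by
  refine le_antisymm ?_ fun s hs => ?_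
  · rw [Ideal.map_le_iff_le_comap]
    intro r hr
    rw [Submodule.mem_annihilator_span_singleton] at hr
    rw [Ideal.mem_comap, Submodule.mem_annihilator_span_singleton, algebraMap_smul,
      ← TensorProduct.tmul_smul, hr, TensorProduct.tmul_zero]
  · rw [Submodule.mem_annihilator_span_singleton, TensorProduct.smul_tmul', smul_eq_mul, mul_one] at hs
    let f : R →ₗ[R] M := LinearMap.toSpanSingleton R M m
    have hex := Module.Flat.lTensor_exact S (LinearMap.exact_subtype_ker_map f)
    obtain ⟨t, ht⟩ := (hex (s ⊗ₜ[R] (1 : R))).1 (by simp [f, hs])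
    have key : ∀ t : S ⊗[R] (LinearMap.ker f), TensorProduct.rid R S ((LinearMap.ker f).subtype.lTensor S t) ∈
        ((Submodule.span R {m}).annihilator).map (algebraMap R S) := by
      intro t
      induction t using TensorProduct.induction_on with
      | zero => simp
      | tmul x a =>
        simp only [LinearMap.lTensor_tmul, Submodule.subtype_apply, TensorProduct.rid_tmul, Algebra.smul_def]
        refine Ideal.mul_mem_right _ _ (Ideal.mem_map_of_mem _ ?_)
        rw [Submodule.mem_annihilator_span_singleton]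
        exact a.2
      | add x y hx hy => rw [map_add, map_add]; exact Ideal.add_mem _ hx hy
    have := key t
    rwa [ht, TensorProduct.rid_tmul, one_smul] at this

theorem module_annihilator_map_flat {R S : Type u} [CommRing R] [CommRing S] [Algebra R S]
    [Module.Flat R S] {M : Type u} [AddCommGroup M] [Module R M] [Module.Finite R M] :
    (Module.annihilator R M).map (algebraMap R S) = Module.annihilator S (S ⊗[R] M) := by
  obtain ⟨k, v, hv⟩ := Module.Finite.exists_fin (R := R) (M := M)
  have hR : (Submodule.span R {v}).annihilator = Module.annihilator R M := by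
    ext r
    rw [Submodule.mem_annihilator_span_singleton, Module.mem_annihilator]
    refine ⟨fun h x => ?_, fun h => funext fun i => h (v i)⟩
    have hx : x ∈ Submodule.span R (Set.range v) := by rw [hv]; trivial
    induction hx using Submodule.span_induction with
    | mem x hx => obtain ⟨l, rfl⟩ := hx; exact congrFun h l
    | zero => simp
    | add a b _ _ ha hb => rw [smul_add, ha, hb, add_zero]
    | smul c a _ ha => rw [smul_comm, ha, smul_zero]
  rw [← hR, annihilator_map_flat]
  ext s
  rw [Submodule.mem_annihilator_span_singleton, Module.mem_annihilator]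
  have e : ∀ i, TensorProduct.piRight R S S (fun _ : Fin k => M) (s • (1 : S) ⊗ₜ[R] v) i = s • (1 : S) ⊗ₜ[R] v i := by
    intro i
    rw [map_smul, Pi.smul_apply, TensorProduct.piRight_apply, TensorProduct.piRightHom_tmul]
  constructor
  · intro h y
    induction y using TensorProduct.induction_on with
    | zero => simp
    | add a b ha hb => rw [smul_add, ha, hb, add_zero]
    | tmul t x =>
      have hx : x ∈ Submodule.span R (Set.range v) := by rw [hv]; trivial
      induction hx using Submodule.span_induction with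
      | mem x hx =>
        obtain ⟨l, rfl⟩ := hx
        have : s • (1 : S) ⊗ₜ[R] v l = 0 := by rw [← e l, h, map_zero]; rfl
        rw [show t ⊗ₜ[R] v l = t • ((1 : S) ⊗ₜ[R] v l) by rw [TensorProduct.smul_tmul', smul_eq_mul, mul_one],
          smul_comm, this, smul_zero]
      | zero => simp
      | add a b _ _ ha hb => rw [TensorProduct.tmul_add, smul_add, ha, hb, add_zero]
      | smul c a _ ha => rw [TensorProduct.tmul_smul, smul_comm, ha, smul_zero]
  · intro h
    apply (TensorProduct.piRight R S S (fun _ : Fin k => M)).injective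
    rw [map_zero]
    funext i
    rw [e i, h]
    rfl

theorem exists_smul_eval_dual (R : Type u) [CommRing R] [IsDomain R] (M : Type u)
    [AddCommGroup M] [Module R M] [Module.Finite R M] :
    ∃ c : R, c ≠ 0 ∧ (∀ x : M, Module.Dual.eval R M x = 0 → c • x = 0) ∧
      ∀ y : Module.Dual R (Module.Dual R M), c • y ∈ LinearMap.range (Module.Dual.eval R M) := by
  classical
  obtain ⟨k, v, hv⟩ := Module.Finite.exists_fin (R := R) (M := M)
  obtain ⟨s, hli, hmax⟩ := exists_maximal_linearIndepOn R v
  have hli' : LinearIndependent R fun i : s => v i := hli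
  set F := Submodule.span R (Set.range fun i : s => v i) with hF
  have hFimg : Submodule.span R (v '' s) = F := by rw [hF, Set.image_eq_range]
  have h1 : ∀ i, ∃ a : R, a ≠ 0 ∧ a • v i ∈ F := by
    intro i
    by_cases hi : i ∈ s
    · exact ⟨1, one_ne_zero, by rw [one_smul]; exact Submodule.subset_span ⟨⟨i, hi⟩, rfl⟩⟩
    · obtain ⟨a, ha, ha'⟩ := hmax i hi
      exact ⟨a, ha, hFimg ▸ ha'⟩
  choose a ha ha' using h1
  set c := ∏ i, a i
  have hc : c ≠ 0 := Finset.prod_ne_zero_iff.2 fun i _ => ha i
  have hcF : ∀ x : M, c • x ∈ F := by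
    intro x
    have hx : x ∈ Submodule.span R (Set.range v) := by rw [hv]; trivial
    induction hx using Submodule.span_induction with
    | mem x hx =>
      obtain ⟨i, rfl⟩ := hx
      rw [show c = (∏ j ∈ Finset.univ.erase i, a j) * a i from (Finset.prod_erase_mul _ _ (Finset.mem_univ i)).symm,
        mul_smul]
      exact F.smul_mem _ (ha' i)
    | zero => simp
    | add a b _ _ ha hb => rw [smul_add]; exact add_mem ha hb
    | smul r a _ ha => rw [smul_comm]; exact F.smul_mem _ ha
  let b : Module.Basis s R F := Module.Basis.span hli'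
  let φ : M →ₗ[R] (s → R) := b.equivFun.toLinearMap.comp ((c • LinearMap.id : M →ₗ[R] M).codRestrict F hcF)
  have hφ : ∀ x, c • x = ∑ i : s, φ x i • v i := by
    intro x
    have h := congrArg F.subtype (b.sum_equivFun ⟨c • x, hcF x⟩)
    simp only [map_sum, map_smul, Submodule.subtype_apply] at h
    rw [← h]
    refine Finset.sum_congr rfl fun i _ => ?_
    rw [Module.Basis.span_apply]
    rfl
  refine ⟨c, hc, fun x hx => ?_, fun y => ⟨∑ i : s, y ((LinearMap.proj i).comp φ) • v i, ?_⟩⟩
  · rw [hφ]
    refine Finset.sum_eq_zero fun i _ => ?_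
    have h : φ x i = 0 := LinearMap.congr_fun hx ((LinearMap.proj i).comp φ)
    rw [h, zero_smul]
  · refine LinearMap.ext fun f => ?_
    have hf : c • f = ∑ i : s, f (v i) • (LinearMap.proj i).comp φ := by
      refine LinearMap.ext fun x => ?_
      rw [LinearMap.smul_apply, ← map_smul, hφ, map_sum, LinearMap.sum_apply]
      refine Finset.sum_congr rfl fun i _ => ?_
      rw [map_smul, LinearMap.smul_apply, smul_eq_mul, smul_eq_mul, mul_comm]
      rfl
    rw [Module.Dual.eval_apply, map_sum, LinearMap.smul_apply, ← map_smul y, hf, map_sum]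
    refine Finset.sum_congr rfl fun i _ => ?_
    rw [map_smul, map_smul, smul_eq_mul, smul_eq_mul, mul_comm]

theorem mem_range_of_height_one {R : Type u} [CommRing R] [IsDomain R] [IsNoetherianRing R]
    [IsIntegrallyClosed R] (x : FractionRing R)
    (hx : ∀ (p : Ideal R) [p.IsPrime], p.height = 1 →
      x ∈ Set.range (algebraMap (Localization.AtPrime p) (FractionRing R))) :
    x ∈ Set.range (algebraMap R (FractionRing R)) := by
  have hn : ∀ (p : Ideal R) [p.IsPrime], IsDomain (Localization.AtPrime p) ∧
      IsIntegrallyClosed (Localization.AtPrime p) := fun p _ => ⟨inferInstance,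
      isIntegrallyClosed_of_isLocalization _ p.primeCompl p.primeCompl_le_nonZeroDivisors⟩
  have h2 := (CAlgSerre.normal_iff.1 hn).2
  obtain ⟨a, b, hb, rfl⟩ := IsFractionRing.div_surjective (A := R) x
  have hb0 : algebraMap R (FractionRing R) b ≠ 0 := IsLocalization.to_map_ne_zero_of_mem_nonZeroDivisors _ le_rfl hb
  have hreg : IsSMulRegular R b := fun u v h => mul_left_cancel₀ (nonZeroDivisors.ne_zero hb) h
  suffices h : a ∈ Ideal.span ({b} : Set R) by
    obtain ⟨d, rfl⟩ := Ideal.mem_span_singleton.1 h
    exact ⟨d, by rw [map_mul, mul_div_cancel_left₀ _ hb0]⟩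
  refine CAlgSerre.mem_span_of_codim_one h2 hreg ?_
  intro q _ hq
  rcases hq.lt_or_eq with h | h
  · have hq0 : q = ⊥ := by
      have h0 : q.height = 0 := Order.lt_one_iff.1 h
      rw [Ideal.height_eq_zero_iff, IsDomain.minimalPrimes_eq_singleton_bot] at h0
      first | exact h0 | exact Set.mem_singleton_iff.1 h0
    exact ⟨b, fun hbq => nonZeroDivisors.ne_zero hb (by simpa [hq0] using hbq),
      Ideal.mul_mem_right _ _ (Ideal.subset_span rfl)⟩
  · obtain ⟨z, hz⟩ := hx q h
    obtain ⟨r, t, rfl⟩ := IsLocalization.exists_mk'_eq q.primeCompl z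
    refine ⟨t, t.2, Ideal.mem_span_singleton.2 ⟨r, ?_⟩⟩
    apply IsFractionRing.injective R (FractionRing R)
    have := congrArg (algebraMap (Localization.AtPrime q) (FractionRing R)) (IsLocalization.mk'_spec (Localization.AtPrime q) r t)
    rw [map_mul, ← IsScalarTower.algebraMap_apply, ← IsScalarTower.algebraMap_apply, hz] at this
    rw [map_mul, map_mul, ← this]
    field_simp

end Groth.Agent.CAlgMisc
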