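import Mathlib
import Groth.Prelude.Def_CAlgX
import Groth.Agent.CAlgSerre.Reduced

/-!
Small commutative algebra lemmas, batch B.
-/

namespace Groth.Agent.CAlgMisc

open scoped TensorProduct

universe u

theorem isTorsionFree_iff_associatedPrimes (R : Type u) [CommRing R] [IsDomain R] [IsNoetherianRing R]
    (M : Type u) [AddCommGroup M] [Module R M] [Nontrivial M] :
    Module.IsTorsionFree R M ↔ associatedPrimes R M = {⊥} := by
  constructor
  · intro _
    refine Set.eq_singleton_iff_nonempty_unique_mem.2 ⟨associatedPrimes.nonempty R M, fun p hp => ?_⟩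
    obtain ⟨hp', x, hx⟩ := isAssociatedPrime_iff.1 hp
    have hx0 : x ≠ 0 := by
      rintro rfl
      exact hp'.ne_top (by rw [hx, Ideal.eq_top_iff_one, Submodule.mem_colon_singleton]; simp)
    rw [hx, eq_bot_iff]
    intro r hr
    rw [Submodule.mem_colon_singleton, Submodule.mem_bot] at hr
    exact (smul_eq_zero.1 hr).resolve_right hx0
  · intro h
    refine ⟨fun r hr x y hxy => ?_⟩
    by_contra hne
    have hmem : r ∈ ⋃ p ∈ associatedPrimes R M, (p : Set R) := by
      rw [biUnion_associatedPrimes_eq_zero_divisors]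
      exact ⟨x - y, sub_ne_zero.2 hne, by rw [smul_sub]; exact sub_eq_zero.2 hxy⟩
    rw [h] at hmem
    simp only [Set.mem_singleton_iff, Set.iUnion_iUnion_eq_left, SetLike.mem_coe, Submodule.mem_bot] at hmem
    exact hr.ne_zero hmem

theorem isTorsionFree_iff_S1 (R : Type u) [CommRing R] [IsDomain R] [IsNoetherianRing R]
    (M : Type u) [AddCommGroup M] [Module R M] [Module.Finite R M] [Nontrivial M] :
    Module.IsTorsionFree R M ↔
      (⟨⊥, Ideal.isPrime_bot⟩ : PrimeSpectrum R) ∈ Module.support R M ∧ LocCoh.HasSk 1 R M := by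
  rw [CAlgSerre.hasSk_one_iff, isTorsionFree_iff_associatedPrimes]
  constructor
  · intro h
    have hb : (⊥ : Ideal R) ∈ associatedPrimes R M := h ▸ rfl
    have hs : (⟨⊥, Ideal.isPrime_bot⟩ : PrimeSpectrum R) ∈ Module.support R M :=
      Depth.mem_support_of_mem_associatedPrimes hb
    refine ⟨hs, fun p hp => ?_⟩
    rw [h, Set.mem_singleton_iff] at hp
    have hann : Module.annihilator R M = ⊥ := le_bot_iff.1 (Module.mem_support_iff_of_finite.1 hs)
    rw [hann, hp, Ideal.minimalPrimes_eq_subsingleton_self]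
    rfl
  · rintro ⟨hs, h⟩
    have hann : Module.annihilator R M = ⊥ := le_bot_iff.1 (Module.mem_support_iff_of_finite.1 hs)
    refine Set.eq_singleton_iff_nonempty_unique_mem.2 ⟨associatedPrimes.nonempty R M, fun p hp => ?_⟩
    have := h p hp
    rw [hann, Ideal.minimalPrimes_eq_subsingleton_self] at this
    exact this

theorem isEpi_iff_linearMap (R S : Type u) [CommRing R] [CommRing S] [Algebra R S] :
    Algebra.IsEpi R S ↔
      ∀ (N₁ N₂ : Type u) [AddCommGroup N₁] [Module S N₁] [Module R N₁] [IsScalarTower R S N₁]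
        [AddCommGroup N₂] [Module S N₂] [Module R N₂] [IsScalarTower R S N₂] (φ : N₁ →ₗ[R] N₂),
        ∀ (s : S) (x : N₁), φ (s • x) = s • φ x := by
  rw [Algebra.isEpi_iff_forall_one_tmul_eq]
  constructor
  · intro h N₁ N₂ _ _ _ _ _ _ _ _ φ s x
    let B : S →ₗ[R] S →ₗ[R] N₂ := LinearMap.mk₂ R (fun a b => a • φ (b • x))
      (fun a a' b => add_smul a a' _) (fun c a b => smul_assoc c a _)
      (fun a b b' => by rw [add_smul, map_add, smul_add])
      (fun c a b => by rw [smul_assoc, map_smul, smul_comm])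
    have := congrArg (TensorProduct.lift B) (h s)
    simpa [B] using this
  · intro h a
    have := h S (S ⊗[R] S) ((TensorProduct.mk R S S) 1) a 1
    rw [TensorProduct.mk_apply, TensorProduct.mk_apply, smul_eq_mul, mul_one, TensorProduct.smul_tmul',
      smul_eq_mul, mul_one] at this
    exact this

theorem fiber_bijective (R S : Type u) [CommRing R] [CommRing S] [Algebra R S] [Algebra.IsEpi R S]
    (p : Ideal R) [p.IsPrime] :
    Subsingleton (p.Fiber S) ∨ Function.Bijective (algebraMap p.ResidueField (p.Fiber S)) := by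
  rcases subsingleton_or_nontrivial (p.Fiber S) with h | h
  · exact Or.inl h
  refine Or.inr ⟨RingHom.injective _, ?_⟩
  set K := p.ResidueField
  set F := p.Fiber S
  have hepi := (Algebra.isEpi_iff_forall_one_tmul_eq R S).1 inferInstance
  let B : S →ₗ[R] S →ₗ[R] F ⊗[K] F := LinearMap.mk₂ R
    (fun a b => ((1 : K) ⊗ₜ[R] a : F) ⊗ₜ[K] ((1 : K) ⊗ₜ[R] b : F))
    (fun a a' b => by rw [TensorProduct.tmul_add, TensorProduct.add_tmul])
    (fun c a b => by rw [TensorProduct.tmul_smul]; rfl)
    (fun a b b' => by rw [TensorProduct.tmul_add, TensorProduct.tmul_add])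
    (fun c a b => by rw [TensorProduct.tmul_smul, TensorProduct.tmul_smul])
  have hswap : ∀ x : F, x ⊗ₜ[K] (1 : F) = (1 : F) ⊗ₜ[K] x := by
    intro x
    induction x using TensorProduct.induction_on with
    | zero => rw [TensorProduct.zero_tmul, TensorProduct.tmul_zero]
    | tmul c s =>
      have h1 : ((1 : K) ⊗ₜ[R] s : F) ⊗ₜ[K] (1 : F) = (1 : F) ⊗ₜ[K] ((1 : K) ⊗ₜ[R] s : F) := by
        have := congrArg (TensorProduct.lift B) (hepi s)
        simp only [TensorProduct.lift.tmul, B, LinearMap.mk₂_apply] at this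
        exact this.symm
      have hc : (c ⊗ₜ[R] s : F) = c • ((1 : K) ⊗ₜ[R] s : F) := by
        rw [TensorProduct.smul_tmul', smul_eq_mul, mul_one]
      rw [hc, ← TensorProduct.smul_tmul', h1, TensorProduct.tmul_smul]
    | add a b ha hb => rw [TensorProduct.add_tmul, TensorProduct.tmul_add, ha, hb]
  obtain ⟨φ, hφ⟩ : ∃ φ : F →ₗ[K] K, φ 1 ≠ 0 := by
    by_contra hno
    push Not at hno
    exact one_ne_zero ((Module.forall_dual_apply_eq_zero_iff K (1 : F)).1 hno)
  intro x
  refine ⟨(φ 1)⁻¹ * φ x, ?_⟩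
  have h2 := congrArg (fun t => TensorProduct.lid K F (φ.rTensor F t)) (hswap x)
  simp only [LinearMap.rTensor_tmul, TensorProduct.lid_tmul] at h2
  rw [Algebra.algebraMap_eq_smul_one, mul_smul, h2, smul_smul, inv_mul_cancel₀ hφ, one_smul]

theorem injective_comap_of_isEpi (R S : Type u) [CommRing R] [CommRing S] [Algebra R S] [Algebra.IsEpi R S] :
    Function.Injective (PrimeSpectrum.comap (algebraMap R S)) := by
  intro q₁ q₂ h
  let p := PrimeSpectrum.comap (algebraMap R S) q₁
  have hsub : Subsingleton (PrimeSpectrum (p.asIdeal.Fiber S)) := by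
    rcases fiber_bijective R S p.asIdeal with hs | hb
    · refine ⟨fun a => absurd ?_ a.2.ne_top⟩
      exact Subsingleton.elim _ _
    · exact ((PrimeSpectrum.comapEquiv (RingEquiv.ofBijective _ hb)).toEquiv).symm.subsingleton
  have := congrArg Subtype.val
    (((PrimeSpectrum.preimageHomeomorphFiber R S p).toEquiv.subsingleton).elim ⟨q₁, rfl⟩ ⟨q₂, h.symm⟩)
  exact this

theorem bijective_localizedMap_of_le {R M N : Type u} [CommRing R] [AddCommGroup M] [Module R M]
    [AddCommGroup N] [Module R N] (φ : M →ₗ[R] N) {S T : Submonoid R} (hST : S ≤ T)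
    (h : Function.Bijective (LocalizedModule.map S φ)) :
    Function.Bijective (LocalizedModule.map T φ) := by
  constructor
  · rw [injective_iff_map_eq_zero]
    intro z hz
    induction z using LocalizedModule.induction_on with
    | h m t =>
      rw [LocalizedModule.map_mk, ← LocalizedModule.zero_mk (1 : T), LocalizedModule.mk_eq] at hz
      obtain ⟨u, hu⟩ := hz
      simp only [one_smul, smul_zero] at hu
      have h0 : LocalizedModule.map S φ (LocalizedModule.mk ((u : R) • m) 1) = 0 := by
        rw [LocalizedModule.map_mk, map_smul]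
        exact (congrArg (fun y => LocalizedModule.mk y (1 : S)) hu).trans (LocalizedModule.zero_mk _)
      have h1 : LocalizedModule.mk ((u : R) • m) (1 : S) = 0 := h.1 (h0.trans (map_zero _).symm)
      rw [← LocalizedModule.zero_mk (1 : S), LocalizedModule.mk_eq] at h1
      obtain ⟨v, hv⟩ := h1
      simp only [one_smul, smul_zero] at hv
      rw [← LocalizedModule.zero_mk (1 : T), LocalizedModule.mk_eq]
      refine ⟨⟨v, hST v.2⟩ * u, ?_⟩
      simp only [one_smul, smul_zero]
      rw [mul_smul]
      exact hv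
  · intro z
    induction z using LocalizedModule.induction_on with
    | h n t =>
      obtain ⟨w, hw⟩ := h.2 (LocalizedModule.mk n 1)
      induction w using LocalizedModule.induction_on with
      | h m s =>
        rw [LocalizedModule.map_mk, LocalizedModule.mk_eq] at hw
        obtain ⟨v, hv⟩ := hw
        refine ⟨LocalizedModule.mk m (⟨s, hST s.2⟩ * t), ?_⟩
        rw [LocalizedModule.map_mk, LocalizedModule.mk_eq]
        refine ⟨⟨v, hST v.2⟩, ?_⟩
        simp only [one_smul, Submonoid.smul_def, Submonoid.coe_mul] at hv ⊢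
        rw [smul_comm (v : R) (t : R), hv, smul_comm (t : R) (v : R), smul_smul (t : R), mul_comm (t : R)]

theorem isOpen_bijective_locus {R M N : Type u} [CommRing R] [AddCommGroup M] [Module R M]
    [Module.Finite R M] [AddCommGroup N] [Module R N] [Module.FinitePresentation R N] (φ : M →ₗ[R] N) :
    IsOpen {p : PrimeSpectrum R | Function.Bijective (LocalizedModule.map p.asIdeal.primeCompl φ)} := by
  refine isOpen_iff_forall_mem_open.2 fun p hp => ?_
  obtain ⟨g, hg, hb⟩ := Module.FinitePresentation.exists_notMem_bijective φ p.asIdeal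
    (LocalizedModule.mkLinearMap p.asIdeal.primeCompl M) (LocalizedModule.mkLinearMap p.asIdeal.primeCompl N) hp
  refine ⟨PrimeSpectrum.basicOpen g, fun q hq => ?_, PrimeSpectrum.isOpen_basicOpen, hg⟩
  exact bijective_localizedMap_of_le φ (Submonoid.powers_le.2 hq) hb

theorem exists_left_inverse_of_mem_minorIdeal {R : Type u} [CommRing R] {n m : ℕ}
    (A : Matrix (Fin n) (Fin m) R) : ∀ f ∈ CAlgX.minorIdeal A m,
      ∃ B : Matrix (Fin m) (Fin n) R, B * A = f • (1 : Matrix (Fin m) (Fin m) R) := by
  intro f hf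
  induction hf using Submodule.span_induction with
  | mem x hx =>
    obtain ⟨⟨r, c⟩, rfl⟩ := hx
    let Q : Matrix (Fin m) (Fin m) R := (1 : Matrix (Fin m) (Fin m) R).submatrix id c
    let P : Matrix (Fin m) (Fin n) R := (1 : Matrix (Fin n) (Fin n) R).submatrix r id
    have hP : P * A = A.submatrix r id := by
      ext i j; simp [P, Matrix.mul_apply, Matrix.one_apply]
    have hQ : A.submatrix r c = A.submatrix r id * Q := by
      ext i j; simp [Q, Matrix.mul_apply, Matrix.one_apply]
    refine ⟨Q.det • ((A.submatrix r id).adjugate * P), ?_⟩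
    dsimp only
    rw [Matrix.smul_mul, Matrix.mul_assoc, hP, Matrix.adjugate_mul, smul_smul, hQ, Matrix.det_mul,
      mul_comm Q.det]
  | zero => exact ⟨0, by rw [Matrix.zero_mul, zero_smul]⟩
  | add x y _ _ hx hy =>
    obtain ⟨B, hB⟩ := hx
    obtain ⟨C, hC⟩ := hy
    exact ⟨B + C, by rw [Matrix.add_mul, hB, hC, add_smul]⟩
  | smul a x _ hx =>
    obtain ⟨B, hB⟩ := hx
    exact ⟨a • B, by rw [Matrix.smul_mul, hB, smul_smul, smul_eq_mul]⟩

theorem pow_mem_minorIdeal {R : Type u} [CommRing R] {n m : ℕ} (A : Matrix (Fin n) (Fin m) R)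
    (f : R) (B : Matrix (Fin m) (Fin n) R) (h : B * A = f • (1 : Matrix (Fin m) (Fin m) R)) :
    f ^ m ∈ CAlgX.minorIdeal A m := by
  classical
  have hdet : f ^ m = (B * A).det := by rw [h, Matrix.det_smul, Matrix.det_one, mul_one, Fintype.card_fin]
  have hrow : (B * A).det =
      (Matrix.detRowAlternating : (Fin m → R) [⋀^Fin m]→ₗ[R] R).toMultilinearMap
        (fun i => ∑ j, B i j • A j) := by
    congr 1
    ext i k
    simp [Matrix.mul_apply]
  rw [hdet, hrow, MultilinearMap.map_sum]
  refine Ideal.sum_mem _ fun r _ => ?_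
  rw [MultilinearMap.map_smul_univ, smul_eq_mul]
  refine Ideal.mul_mem_left _ _ (Ideal.subset_span ⟨(r, id), ?_⟩)
  rfl

theorem support_eq_zeroLocus_minorIdeal {R M : Type u} [CommRing R] [AddCommGroup M] [Module R M]
    [Module.Finite R M] {n m : ℕ} (π : (Fin n → R) →ₗ[R] M) (hπ : Function.Surjective π)
    (A : Matrix (Fin m) (Fin n) R) (hA : LinearMap.ker π = Submodule.span R (Set.range fun i => A i)) :
    Module.support R M = PrimeSpectrum.zeroLocus (CAlgX.minorIdeal A n : Set R) := by
  have hker : ∀ i, π (A i) = 0 := fun i =>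
    LinearMap.mem_ker.1 (hA ▸ Submodule.subset_span ⟨i, rfl⟩)
  have hrow : ∀ (B : Matrix (Fin n) (Fin m) R) (i : Fin n), π ((B * A) i) = 0 := by
    intro B i
    have : (B * A) i = ∑ j, B i j • A j := by ext k; simp [Matrix.mul_apply]
    rw [this, map_sum]
    exact Finset.sum_eq_zero fun j _ => by rw [map_smul, hker, smul_zero]
  rw [Module.support_eq_zeroLocus]
  ext p
  simp only [PrimeSpectrum.mem_zeroLocus, SetLike.coe_subset_coe]
  refine ⟨fun hp f hf => ?_, fun hp f hf => ?_⟩
  · refine hp (Module.mem_annihilator.2 fun x => ?_)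
    obtain ⟨B, hB⟩ := exists_left_inverse_of_mem_minorIdeal A f hf
    obtain ⟨v, rfl⟩ := hπ x
    have hv : f • v = ∑ i, v i • (B * A) i := by
      rw [hB]; ext k; simp [Matrix.one_apply, mul_comm]
    rw [← map_smul, hv, map_sum]
    exact Finset.sum_eq_zero fun i _ => by rw [map_smul, hrow, smul_zero]
  · have hex : ∀ i : Fin n, ∃ c : Fin m → R, ∑ j, c j • A j = f • (Pi.single i 1 : Fin n → R) := by
      intro i
      refine (Submodule.mem_span_range_iff_exists_fun R).1 ?_
      rw [← hA, LinearMap.mem_ker, map_smul, Module.mem_annihilator.1 hf]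
    choose B hB using hex
    have hBA : Matrix.of B * A = f • (1 : Matrix (Fin n) (Fin n) R) := by
      ext i k
      have := congrFun (hB i) k
      simpa [Matrix.mul_apply, Matrix.one_apply, Pi.single_apply, eq_comm] using this
    exact p.2.mem_of_pow_mem _ (hp (pow_mem_minorIdeal A f _ hBA))

theorem isClosed_isCompact_support (R : Type u) [CommRing R] (M : Type u) [AddCommGroup M] [Module R M]
    [Module.FinitePresentation R M] : IsClosed (Module.support R M) ∧ IsCompact (Module.support R M)ᶜ := by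
  classical
  obtain ⟨n, π, hπ⟩ := Module.Finite.exists_fin' R M
  obtain ⟨m, A, hA⟩ := Submodule.fg_iff_exists_fin_generating_family.1
    (Module.FinitePresentation.fg_ker π hπ)
  have hs := support_eq_zeroLocus_minorIdeal π hπ (Matrix.of A) hA.symm
  refine ⟨hs ▸ PrimeSpectrum.isClosed_zeroLocus _, ?_⟩
  refine ((PrimeSpectrum.isCompact_isOpen_iff).2 ⟨Finset.univ.image fun fg : (Fin n → Fin m) × (Fin n → Fin n) =>
    Matrix.det ((Matrix.of A).submatrix fg.1 fg.2), ?_⟩).1
  rw [hs, CAlgX.minorIdeal, PrimeSpectrum.zeroLocus_span, Finset.coe_image, Finset.coe_univ,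
    Set.image_univ]

theorem isLocalization_pi_atPrime {R : Type u} [CommRing R] {ι : Type} [Fintype ι] (q : ι → Ideal R)
    [∀ i, (q i).IsPrime] (hinj : Function.Injective q)
    (hmin : ∀ P : Ideal R, P ∈ minimalPrimes R ↔ P ∈ Set.range q)
    (hzd : ∀ x : R, x ∈ nonZeroDivisors R ↔ ∀ i, x ∉ q i) :
    IsLocalization (nonZeroDivisors R) (∀ i, Localization.AtPrime (q i)) := by
  classical
  have hle : ∀ i j, q i ≤ q j → i = j := fun i j h =>
    hinj (le_antisymm h (((hmin (q j)).2 ⟨j, rfl⟩).2 ((hmin (q i)).2 ⟨i, rfl⟩).1 h))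
  have hd : ∀ i, ∃ d, d ∉ q i ∧ ∀ j, j ≠ i → d ∈ q j := by
    intro i
    have : ¬ ((Finset.univ.erase i).inf q) ≤ q i := fun h => by
      obtain ⟨j, hj, hjle⟩ := (Ideal.IsPrime.inf_le' inferInstance).1 h
      exact (Finset.mem_erase.1 hj).1 (hle j i hjle)
    obtain ⟨d, hd, hdi⟩ := SetLike.not_le_iff_exists.1 this
    exact ⟨d, hdi, fun j hj => (Finset.inf_le (Finset.mem_erase.2 ⟨hj, Finset.mem_univ j⟩) : _ ≤ q j) hd⟩
  choose d hdi hdj using hd
  have hnil : ∀ i j, j ≠ i → ∃ N : ℕ, algebraMap R (Localization.AtPrime (q j)) (d i) ^ N = 0 := by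
    intro i j hij
    change IsNilpotent _
    rw [← mem_nilradical, nilradical_eq_sInf, Submodule.mem_sInf]
    intro (P : Ideal _) (hP : P.IsPrime)
    haveI := IsLocalization.subsingleton_primeSpectrum_of_mem_minimalPrimes (q j)
      ((hmin (q j)).2 ⟨j, rfl⟩) (Localization.AtPrime (q j))
    have hPm : P = IsLocalRing.maximalIdeal _ := congrArg PrimeSpectrum.asIdeal
      (Subsingleton.elim (⟨P, hP⟩ : PrimeSpectrum _) (IsLocalRing.closedPoint _))
    rw [hPm, IsLocalization.AtPrime.to_map_mem_maximal_iff _ (q j)]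
    exact hdj i j hij
  choose N hN using hnil
  let e : ι → R := fun i => d i ^ (1 + ∑ j, if h : j = i then 0 else N i j h)
  have he : ∀ i j, j ≠ i → algebraMap R (Localization.AtPrime (q j)) (e i) = 0 := by
    intro i j hij
    rw [map_pow]
    refine pow_eq_zero_of_le ?_ (hN i j hij)
    refine le_trans ?_ (Nat.le_add_left _ 1)
    refine le_trans ?_ (Finset.single_le_sum (fun j _ => Nat.zero_le _) (Finset.mem_univ j))
    rw [dif_neg hij]
  have hei : ∀ i, e i ∉ q i := fun i h => hdi i (Ideal.IsPrime.mem_of_pow_mem inferInstance _ h)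
  refine (isLocalization_iff _ _).2 ⟨fun y => ?_, fun z => ?_, fun {x y} hxy => ?_⟩
  · refine Pi.isUnit_iff.2 fun i => ?_
    exact IsLocalization.map_units (Localization.AtPrime (q i))
      (⟨y, (hzd _).1 y.2 i⟩ : (q i).primeCompl)
  · have hz : ∀ i, ∃ r : R × (q i).primeCompl,
        z i * algebraMap R (Localization.AtPrime (q i)) r.2 = algebraMap R _ r.1 :=
      fun i => IsLocalization.surj (q i).primeCompl (z i)
    choose r hr using hz
    let a := ∑ i, e i * (r i).1
    let b := ∑ i, e i * ((r i).2 : R)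
    have key : ∀ j (c : ι → R), algebraMap R (Localization.AtPrime (q j)) (∑ i, e i * c i) =
        algebraMap R _ (e j * c j) := by
      intro j c
      rw [map_sum, Finset.sum_eq_single j (fun i _ hij => by rw [map_mul, he i j (Ne.symm hij), zero_mul])
        (fun h => absurd (Finset.mem_univ j) h)]
    have hb : b ∈ nonZeroDivisors R := by
      rw [hzd]
      intro j hbj
      rw [← IsLocalization.AtPrime.to_map_mem_maximal_iff (Localization.AtPrime (q j)) (q j), key j,
        IsLocalization.AtPrime.to_map_mem_maximal_iff _ (q j)] at hbj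
      exact (Ideal.IsPrime.mem_or_mem inferInstance hbj).elim (hei j) (r j).2.2
    refine ⟨⟨a, ⟨b, hb⟩⟩, funext fun j => ?_⟩
    rw [Pi.mul_apply, Pi.algebraMap_apply, Pi.algebraMap_apply]
    show z j * algebraMap R _ b = algebraMap R _ a
    rw [key j, key j, map_mul, map_mul, ← hr j]
    ring
  · have : ¬ ((Submodule.span R {x - y}).annihilator : Set R) ⊆ ⋃ i ∈ (↑(Finset.univ : Finset ι) : Set ι), (q i : Set R) := by
      intro h
      obtain ⟨i₀, -, -⟩ := Set.mem_iUnion₂.1 (h (zero_mem _))
      obtain ⟨i, -, hi⟩ := (Ideal.subset_union_prime (f := q) i₀ i₀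
        (fun _ _ _ _ => inferInstance)).1 h
      obtain ⟨c, hc⟩ := IsLocalization.exists_of_eq (M := (q i).primeCompl) (congrFun hxy i)
      exact c.2 (hi ((Submodule.mem_annihilator_span_singleton _ _).2 (by rw [smul_eq_mul, mul_sub, hc, sub_self])))
    obtain ⟨c, hc, hcq⟩ := Set.not_subset.1 this
    rw [SetLike.mem_coe, Submodule.mem_annihilator_span_singleton, smul_eq_mul, mul_sub, sub_eq_zero] at hc
    exact ⟨⟨c, (hzd c).2 fun i hi => hcq (Set.mem_biUnion (Finset.mem_coe.2 (Finset.mem_univ i)) hi)⟩, hc⟩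

theorem isLocalization_atPrime_of_forall_le {R S : Type u} [CommRing R] [CommRing S] [Algebra R S]
    (p : Ideal R) [p.IsPrime] (q : Ideal S) [q.IsPrime] [hq : q.LiesOver p]
    (h : ∀ P : Ideal S, P.IsPrime → P.under R ≤ p → P ≤ q) :
    IsLocalization.AtPrime (Localization (Algebra.algebraMapSubmonoid S p.primeCompl)) q := by
  refine IsLocalization.of_le (M := Algebra.algebraMapSubmonoid S p.primeCompl) _ ?_ ?_
  · rintro _ ⟨r, hr, rfl⟩ hrq
    exact hr ((Ideal.mem_of_liesOver q p r).2 hrq)
  · intro s hs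
    by_contra hu
    obtain ⟨Mx, hMx, hsM⟩ := exists_max_ideal_of_mem_nonunits hu
    haveI := hMx.isPrime
    refine hs (h (Mx.comap (algebraMap S _)) inferInstance (fun r hr => ?_) hsM)
    by_contra hrp
    exact hMx.ne_top (Ideal.eq_top_of_isUnit_mem _ hr
      (IsLocalization.map_units _ (⟨algebraMap R S r, r, hrp, rfl⟩ : Algebra.algebraMapSubmonoid S p.primeCompl)))

theorem isLocalization_of_goingUp {R S : Type u} [CommRing R] [CommRing S] [Algebra R S]
    [Algebra.HasGoingUp R S] (p : Ideal R) [p.IsPrime] (q : Ideal S) [q.IsPrime] [q.LiesOver p]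
    (huniq : ∀ q' : Ideal S, q'.IsPrime → q'.under R = p → q' = q) :
    IsLocalization.AtPrime (Localization (Algebra.algebraMapSubmonoid S p.primeCompl)) q := by
  refine isLocalization_atPrime_of_forall_le p q fun P hP hle => ?_
  rcases hle.eq_or_lt with h | h
  · exact (huniq P hP h).le
  · obtain ⟨Q, hPQ, hQ, hQp⟩ := Algebra.HasGoingUp.exists_ideal_ge_liesOver_of_lt P h
    exact hPQ.trans (huniq Q hQ hQp.over.symm).le

theorem isLocalization_of_goingDown {R S : Type u} [CommRing R] [CommRing S] [Algebra R S]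
    [Algebra.HasGoingDown R S]
    (hinj : ∀ q₁ q₂ : Ideal S, q₁.IsPrime → q₂.IsPrime → q₁.under R = q₂.under R → q₁ = q₂)
    (p : Ideal R) [p.IsPrime] (q : Ideal S) [q.IsPrime] [hq : q.LiesOver p] :
    IsLocalization.AtPrime (Localization (Algebra.algebraMapSubmonoid S p.primeCompl)) q := by
  refine isLocalization_atPrime_of_forall_le p q fun P hP hle => ?_
  obtain ⟨Q, hQq, hQ, hQp⟩ := Ideal.exists_ideal_le_liesOver_of_le (p := P.under R) (q := p) q hle
  exact (hinj P Q hP hQ hQp.over).trans_le hQq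

theorem rank_baseChange_domain (R R' : Type u) [CommRing R] [IsDomain R] [CommRing R'] [IsDomain R']
    [Algebra R R'] (h : Function.Injective (algebraMap R R')) (M : Type u) [AddCommGroup M] [Module R M] :
    Module.rank R' (R' ⊗[R] M) = Module.rank R M := by
  let K := FractionRing R
  let K' := FractionRing R'
  haveI : FaithfulSMul R K' := (faithfulSMul_iff_algebraMap_injective R K').2 (by
    rw [IsScalarTower.algebraMap_eq R R' K']
    exact (IsFractionRing.injective R' K').comp h)
  letI : Algebra K K' := FractionRing.liftAlgebra R K'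
  have hA : Module.rank K' (K' ⊗[R'] (R' ⊗[R] M)) = Module.rank R' (R' ⊗[R] M) := by
    rw [IsLocalization.rank_eq K' (nonZeroDivisors R') le_rfl]
    exact IsLocalizedModule.rank_eq (nonZeroDivisors R') le_rfl (TensorProduct.mk R' K' (R' ⊗[R] M) 1)
  have hB : Module.rank K (K ⊗[R] M) = Module.rank R M := by
    rw [IsLocalization.rank_eq K (nonZeroDivisors R) le_rfl]
    exact IsLocalizedModule.rank_eq (nonZeroDivisors R) le_rfl (TensorProduct.mk R K M 1)
  rw [← hA, ← hB, ((TensorProduct.AlgebraTensorModule.cancelBaseChange R R' K' K' M).trans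
    (TensorProduct.AlgebraTensorModule.cancelBaseChange R K K' K' M).symm).rank_eq, Module.rank_baseChange,
    Cardinal.lift_id]

end Groth.Agent.CAlgMisc
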