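import Mathlib
import Groth.Prelude.Def_KZero
import Groth.Prelude.Def_W4stkalgebra1Int
import Groth.Agent.CAlgMisc.SmallC

/-!
Small commutative algebra lemmas, batch D.
-/

namespace Groth.Agent.CAlgMisc

open scoped TensorProduct
open CategoryTheory CategoryTheory.Limits

universe u

theorem isIntegralOverIdeal_iff {R S : Type u} [CommRing R] [CommRing S] [Algebra R S] (I : Ideal R) (s : S) :
    W4stkalgebra1.IsIntegralOverIdeal I s ↔
      ((Polynomial.mapRingHom (algebraMap R S)).comp (reesAlgebra I).val.toRingHom).IsIntegralElem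
        (Polynomial.C s * Polynomial.X) := by
  classical
  constructor
  · rintro ⟨p, hmon, hcoef, heval⟩
    set d := p.natDegree with hd
    have hmem : ∀ j : Fin d, Polynomial.monomial (d - j) (p.coeff j) ∈ reesAlgebra I :=
      fun j => reesAlgebra.monomial_mem.2 (hcoef j j.2)
    refine ⟨Polynomial.X ^ d + ∑ j : Fin d, Polynomial.C (⟨_, hmem j⟩ : reesAlgebra I) * Polynomial.X ^ (j : ℕ),
      Polynomial.monic_X_pow_add ?_, ?_⟩
    · exact Polynomial.degree_sum_fin_lt _
    · rw [Polynomial.eval₂_add, Polynomial.eval₂_X_pow, Polynomial.eval₂_finset_sum]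
      have h0 : s ^ d + ∑ j : Fin d, algebraMap R S (p.coeff j) * s ^ (j : ℕ) = 0 := by
        have := heval
        rw [Polynomial.eval₂_eq_sum_range, Finset.sum_range_succ, ← hd, hd, hmon.coeff_natDegree, map_one, one_mul,
          ← hd, Finset.sum_range (fun i => algebraMap R S (p.coeff i) * s ^ i), add_comm] at this
        exact this
      have hterm : ∀ j : Fin d, Polynomial.eval₂
          ((Polynomial.mapRingHom (algebraMap R S)).comp (reesAlgebra I).val.toRingHom) (Polynomial.C s * Polynomial.X)
          (Polynomial.C (⟨_, hmem j⟩ : reesAlgebra I) * Polynomial.X ^ (j : ℕ)) =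
          Polynomial.C (algebraMap R S (p.coeff j) * s ^ (j : ℕ)) * Polynomial.X ^ d := by
        intro j
        rw [Polynomial.eval₂_mul, Polynomial.eval₂_C, Polynomial.eval₂_X_pow]
        simp only [RingHom.coe_comp, Function.comp_apply, AlgHom.toRingHom_eq_coe, RingHom.coe_coe,
          Subalgebra.coe_val, Polynomial.coe_mapRingHom, Polynomial.map_monomial]
        rw [← Polynomial.C_mul_X_pow_eq_monomial, mul_pow, ← Polynomial.C_pow, map_mul]
        calc Polynomial.C (algebraMap R S (p.coeff j)) * Polynomial.X ^ (d - (j : ℕ)) *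
              (Polynomial.C (s ^ (j : ℕ)) * Polynomial.X ^ (j : ℕ))
            = Polynomial.C (algebraMap R S (p.coeff j)) * Polynomial.C (s ^ (j : ℕ)) *
              (Polynomial.X ^ (d - (j : ℕ)) * Polynomial.X ^ (j : ℕ)) := by ring
          _ = _ := by rw [← pow_add, Nat.sub_add_cancel j.2.le]
      rw [Finset.sum_congr rfl fun j _ => hterm j, ← Finset.sum_mul, ← map_sum, mul_pow, ← Polynomial.C_pow,
        ← add_mul, ← map_add, h0, map_zero, zero_mul]
  · rintro ⟨q, hmon, heval⟩
    set d := q.natDegree with hd
    rw [Polynomial.eval₂_eq_sum_range, Finset.sum_range_succ, ← hd] at heval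
    rw [show q.coeff d = 1 from hmon.coeff_natDegree, map_one, one_mul] at heval
    let c : Fin d → R := fun j => ((q.coeff j : reesAlgebra I) : Polynomial R).coeff (d - j)
    have hc : ∀ j : Fin d, c j ∈ I ^ (d - (j : ℕ)) := fun j => (q.coeff j).2 _
    let p : Polynomial R := Polynomial.X ^ d + ∑ j : Fin d, Polynomial.C (c j) * Polynomial.X ^ (j : ℕ)
    rcases subsingleton_or_nontrivial R with hR | hR
    · exact ⟨1, Polynomial.monic_one, fun j hj => by simp at hj, by
        have : Subsingleton S := (algebraMap R S).codomain_trivial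
        exact Subsingleton.elim _ _⟩
    have hlt : (∑ j : Fin d, Polynomial.C (c j) * Polynomial.X ^ (j : ℕ)).degree < (d : WithBot ℕ) :=
      Polynomial.degree_sum_fin_lt _
    have hdeg : p.natDegree = d := by
      refine Polynomial.natDegree_eq_of_degree_eq_some ?_
      rw [Polynomial.degree_add_eq_left_of_degree_lt (by rwa [Polynomial.degree_X_pow]), Polynomial.degree_X_pow]
    refine ⟨p, Polynomial.monic_X_pow_add hlt, fun j hj => ?_, ?_⟩
    · rw [hdeg] at hj ⊢
      have : p.coeff j = c ⟨j, hj⟩ := by
        simp only [p, Polynomial.coeff_add, Polynomial.coeff_X_pow, hj.ne, if_false, zero_add,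
          Polynomial.finsetSum_coeff, Polynomial.coeff_C_mul, mul_ite, mul_one, mul_zero]
        rw [Finset.sum_eq_single (⟨j, hj⟩ : Fin d) (fun b _ hb => if_neg fun h => hb (Fin.ext h.symm))
          (fun h => absurd (Finset.mem_univ _) h), if_pos rfl]
      rw [this]
      exact hc ⟨j, hj⟩
    · have := congrArg (fun f : Polynomial S => f.coeff d) heval
      simp only [Polynomial.coeff_add, Polynomial.finsetSum_coeff, Polynomial.coeff_zero] at this
      rw [mul_pow, ← Polynomial.C_pow, Polynomial.coeff_C_mul, Polynomial.coeff_X_pow, if_pos rfl, mul_one,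
        Finset.sum_range] at this
      rw [Polynomial.eval₂_add, Polynomial.eval₂_X_pow, Polynomial.eval₂_finset_sum, add_comm]
      refine Eq.trans ?_ this
      refine congrArg (· + s ^ d) (Finset.sum_congr rfl fun j _ => ?_)
      rw [Polynomial.eval₂_mul, Polynomial.eval₂_C, Polynomial.eval₂_X_pow, mul_pow, ← Polynomial.C_pow,
        ← mul_assoc, mul_comm _ (Polynomial.C (s ^ (j : ℕ))), mul_assoc, Polynomial.coeff_C_mul,
        Polynomial.coeff_mul_X_pow', if_pos j.2.le]
      simp only [RingHom.coe_comp, Function.comp_apply, AlgHom.toRingHom_eq_coe, RingHom.coe_coe,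
        Subalgebra.coe_val, Polynomial.coe_mapRingHom, Polynomial.coeff_map]
      rw [mul_comm]

theorem isIntegralOverIdeal_submodule {R S : Type u} [CommRing R] [CommRing S] [Algebra R S] (I : Ideal R) :
    (∃ N : Submodule R S, ∀ s : S, s ∈ N ↔ W4stkalgebra1.IsIntegralOverIdeal I s) ∧
      (∀ s s' : S, IsIntegral R s → W4stkalgebra1.IsIntegralOverIdeal I s' →
        W4stkalgebra1.IsIntegralOverIdeal I (s * s')) := by
  let φ := (Polynomial.mapRingHom (algebraMap R S)).comp (reesAlgebra I).val.toRingHom
  letI : Algebra (reesAlgebra I) (Polynomial S) := φ.toAlgebra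
  have hC : ∀ r : R, IsIntegral (reesAlgebra I) (Polynomial.C (algebraMap R S r) : Polynomial S) := by
    intro r
    have : (Polynomial.C (algebraMap R S r) : Polynomial S) =
        algebraMap (reesAlgebra I) (Polynomial S) (algebraMap R (reesAlgebra I) r) := by
      show _ = φ (algebraMap R (reesAlgebra I) r)
      simp [φ]
    rw [this]
    exact isIntegral_algebraMap
  refine ⟨⟨{ carrier := {s | IsIntegral (reesAlgebra I) (Polynomial.C s * Polynomial.X)}
             add_mem' := fun {a b} ha hb => by
               show IsIntegral _ _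
               rw [map_add, add_mul]
               exact ha.add hb
             zero_mem' := by
               show IsIntegral _ _
               rw [map_zero, zero_mul]
               exact isIntegral_zero
             smul_mem' := fun r a ha => by
               show IsIntegral _ _
               rw [Algebra.smul_def, map_mul, mul_assoc]
               exact (hC r).mul ha },
    fun s => (isIntegralOverIdeal_iff I s).symm⟩, fun s s' hs hs' => ?_⟩
  rw [isIntegralOverIdeal_iff] at hs' ⊢
  show IsIntegral (reesAlgebra I) _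
  rw [map_mul, mul_assoc]
  refine IsIntegral.mul ?_ hs'
  obtain ⟨p, hp, hps⟩ := hs
  refine ⟨p.map (algebraMap R (reesAlgebra I)), hp.map _, ?_⟩
  rw [Polynomial.eval₂_map]
  have hcomp : (algebraMap (reesAlgebra I) (Polynomial S)).comp (algebraMap R (reesAlgebra I)) =
      (Polynomial.C : S →+* Polynomial S).comp (algebraMap R S) := RingHom.ext fun r => by
    show φ (algebraMap R (reesAlgebra I) r) = _
    simp [φ]
  rw [hcomp, ← Polynomial.hom_eval₂, hps, map_zero]

theorem exists_K0_length (R : Type u) [CommRing R] [IsArtinianRing R] :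
    ∃ φ : KZero.K0sub (fun M : ModuleCat.{u} R => Module.Finite R M) →+ ℤ,
      ∀ (M : ModuleCat.{u} R), Module.Finite R M →
        (φ (KZero.clSub (fun M : ModuleCat.{u} R => Module.Finite R M) M) : ℤ) = (Module.length R M).toNat := by
  let P : ObjectProperty (ModuleCat.{u} R) := fun M => Module.Finite R M
  let g : FreeAbelianGroup (Subtype P) →+ ℤ := FreeAbelianGroup.lift fun M => ((Module.length R M.1).toNat : ℤ)
  have hg : KZero.relSub P ≤ g.ker := by
    refine (AddSubgroup.closure_le _).2 ?_
    rintro x ⟨S, h₁, h₂, h₃, hS, rfl⟩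
    rw [SetLike.mem_coe, AddMonoidHom.mem_ker, map_sub, map_sub]
    simp only [g, FreeAbelianGroup.lift_apply_of]
    haveI : Module.Finite R S.X₁ := h₁
    haveI : Module.Finite R S.X₃ := h₃
    have hlen := Module.length_eq_add_of_exact S.f.hom S.g.hom hS.moduleCat_injective_f hS.moduleCat_surjective_g
      ((ShortComplex.ShortExact.moduleCat_exact_iff_function_exact S).1 hS.exact)
    rw [hlen, ENat.toNat_add (Module.length_ne_top (R := R) (M := S.X₁)) (Module.length_ne_top (R := R) (M := S.X₃))]
    push_cast
    ring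
  refine ⟨QuotientAddGroup.lift _ g hg, fun M hM => ?_⟩
  rw [KZero.clSub, dif_pos hM]
  erw [QuotientAddGroup.lift_mk]
  simp [g, P]

theorem exists_K0_local (R : Type u) [CommRing R] [IsLocalRing R] :
    ∃ e : KZero.K0sub (fun M : ModuleCat.{u} R => Module.Finite R M ∧ Module.Projective R M) ≃+ ℤ,
      e (KZero.clSub (fun M : ModuleCat.{u} R => Module.Finite R M ∧ Module.Projective R M) (ModuleCat.of R R)) = 1 := by
  let P : ObjectProperty (ModuleCat.{u} R) := fun M => Module.Finite R M ∧ Module.Projective R M
  have hfree : ∀ M : ModuleCat.{u} R, P M → Module.Free R M := fun M ⟨h1, h2⟩ => by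
    haveI := Module.finitePresentation_of_projective R M
    exact Module.free_of_flat_of_isLocalRing
  let g : FreeAbelianGroup (Subtype P) →+ ℤ := FreeAbelianGroup.lift fun M => (Module.finrank R M.1 : ℤ)
  have hg : KZero.relSub P ≤ g.ker := by
    refine (AddSubgroup.closure_le _).2 ?_
    rintro x ⟨S, h₁, h₂, h₃, hS, rfl⟩
    rw [SetLike.mem_coe, AddMonoidHom.mem_ker, map_sub, map_sub]
    simp only [g, FreeAbelianGroup.lift_apply_of]
    haveI := h₁.1; haveI := h₃.1; haveI := h₃.2
    haveI := hfree _ h₁; haveI := hfree _ h₃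
    obtain ⟨l, hl⟩ := Module.projective_lifting_property S.g.hom LinearMap.id hS.moduleCat_surjective_g
    have hexact := (ShortComplex.ShortExact.moduleCat_exact_iff_function_exact S).1 hS.exact
    let e := (hexact.splitSurjectiveEquiv hS.moduleCat_injective_f ⟨l, hl⟩).1
    rw [e.finrank_eq, Module.finrank_prod]
    push_cast
    ring
  have hP : P (ModuleCat.of R R) := ⟨(inferInstance : Module.Finite R R), (inferInstance : Module.Projective R R)⟩
  let G : KZero.K0sub P →+ ℤ := QuotientAddGroup.lift _ g hg
  let H : ℤ →+ KZero.K0sub P := zmultiplesHom _ (KZero.clSub P (ModuleCat.of R R))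
  have hG : ∀ (M : ModuleCat.{u} R) (hM : P M), G (KZero.clSub P M) = Module.finrank R M := by
    intro M hM
    rw [KZero.clSub, dif_pos hM]
    erw [QuotientAddGroup.lift_mk]
    simp [g]
  have hrel : ∀ (A B C : ModuleCat.{u} R) (hA : P A) (hB : P B) (hC : P C) (f : A →ₗ[R] B) (k : B →ₗ[R] C),
      Function.Injective f → Function.Surjective k → Function.Exact f k →
      (QuotientAddGroup.mk (FreeAbelianGroup.of ⟨B, hB⟩) : KZero.K0sub P) =
        QuotientAddGroup.mk (FreeAbelianGroup.of ⟨A, hA⟩) + QuotientAddGroup.mk (FreeAbelianGroup.of ⟨C, hC⟩) := by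
    intro A B C hA hB hC f k hf hk hfk
    rw [← QuotientAddGroup.mk_add, QuotientAddGroup.eq]
    have h := AddSubgroup.subset_closure (k := {x : FreeAbelianGroup (Subtype P) | ∃ (S : ShortComplex _) (h₁ : P S.X₁)
      (h₂ : P S.X₂) (h₃ : P S.X₃), S.ShortExact ∧ x = FreeAbelianGroup.of ⟨S.X₂, h₂⟩ - FreeAbelianGroup.of ⟨S.X₁, h₁⟩ -
        FreeAbelianGroup.of ⟨S.X₃, h₃⟩}) (show _ ∈ _ from ⟨ShortComplex.mk (ModuleCat.ofHom f) (ModuleCat.ofHom k)
          (by ext x; exact (hfk (f x)).2 ⟨x, rfl⟩), hA, hB, hC,
        { exact := (ShortComplex.ShortExact.moduleCat_exact_iff_function_exact _).2 hfk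
          mono_f := (ModuleCat.mono_iff_injective _).2 hf
          epi_g := (ModuleCat.epi_iff_surjective _).2 hk }, rfl⟩)
    have h2 := (KZero.relSub P).neg_mem h
    convert h2 using 1
    abel
  have hcl : ∀ (n : ℕ) (M : ModuleCat.{u} R) (hM : P M), Module.finrank R M = n →
      (QuotientAddGroup.mk (FreeAbelianGroup.of ⟨M, hM⟩) : KZero.K0sub P) = n • KZero.clSub P (ModuleCat.of R R) := by
    intro n
    induction n with
    | zero =>
      intro M hM hn
      haveI := hM.1
      haveI := hfree M hM
      haveI : Subsingleton M := (Module.finBasisOfFinrankEq R M hn).repr.toEquiv.subsingleton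
      have := hrel M M M hM hM hM LinearMap.id 0 Function.injective_id (fun c => ⟨0, Subsingleton.elim _ _⟩)
        (fun b => ⟨fun _ => ⟨b, rfl⟩, fun _ => rfl⟩)
      rw [zero_smul]
      exact left_eq_add.1 this
    | succ n ih =>
      intro M hM hn
      haveI := hM.1
      haveI := hfree M hM
      let b := Module.finBasisOfFinrankEq R M hn
      have hA : P (ModuleCat.of R (Fin n → R)) :=
        ⟨(inferInstance : Module.Finite R (Fin n → R)), (inferInstance : Module.Projective R (Fin n → R))⟩
      let f : (Fin n → R) →ₗ[R] M := b.equivFun.symm.toLinearMap ∘ₗ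
        (LinearMap.pi fun i : Fin (n + 1) => Fin.cases 0 (fun j => LinearMap.proj j) i)
      let k : M →ₗ[R] R := (LinearMap.proj 0) ∘ₗ b.equivFun.toLinearMap
      have := hrel (ModuleCat.of R (Fin n → R)) M (ModuleCat.of R R) hA hM hP f k
        (fun x y hxy => funext fun j => by
          have := congrFun (b.equivFun.symm.injective hxy) j.succ
          simpa using this)
        (fun r => ⟨b.equivFun.symm (Pi.single 0 r), by simp [k]⟩)
        (fun z => ⟨fun hz => ⟨fun j => b.equivFun z j.succ, by
            apply b.equivFun.injective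
            funext i
            refine Fin.cases ?_ (fun j => ?_) i
            · show b.equivFun (b.equivFun.symm _) _ = _
              rw [LinearEquiv.apply_symm_apply]
              exact Eq.trans (by simp) hz.symm
            · show b.equivFun (b.equivFun.symm _) _ = _
              rw [LinearEquiv.apply_symm_apply]
              simp⟩,
          fun ⟨x, hx⟩ => by rw [← hx]; simp [f, k]⟩)
      rw [this, ih _ hA (Module.finrank_fin_fun R), KZero.clSub, dif_pos hP, succ_nsmul]
  have hHG : ∀ x, H (G x) = x := by
    intro x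
    induction x using QuotientAddGroup.induction_on with
    | H y =>
      induction y using FreeAbelianGroup.induction_on with
      | zero => simp
      | of M =>
        have h1 := hG M.1 M.2
        rw [KZero.clSub, dif_pos M.2] at h1
        show H (G _) = _
        rw [h1]
        simp only [H, zmultiplesHom_apply, natCast_zsmul]
        exact (hcl _ M.1 M.2 rfl).symm
      | neg M h => rw [QuotientAddGroup.mk_neg, map_neg, map_neg, h]
      | add a b ha hb => rw [QuotientAddGroup.mk_add, map_add, map_add, ha, hb]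
  have hGH : ∀ m, G (H m) = m := fun m => by
    simp only [H, zmultiplesHom_apply, map_zsmul, hG _ hP, Module.finrank_self, Nat.cast_one, smul_eq_mul, mul_one]
  refine ⟨{ toFun := G, invFun := H, left_inv := hHG, right_inv := hGH, map_add' := map_add G }, ?_⟩
  show G _ = 1
  rw [hG _ hP, Module.finrank_self, Nat.cast_one]

theorem isEpi_iff_localization (R S : Type u) [CommRing R] [CommRing S] [Algebra R S] :
    Algebra.IsEpi R S ↔ ∀ (p : Ideal R) [p.IsPrime],
      Algebra.IsEpi (Localization.AtPrime p) (Localization (Algebra.algebraMapSubmonoid S p.primeCompl)) := by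
  rw [Algebra.isEpi_iff_forall_one_tmul_eq]
  constructor
  · intro h p _
    rw [Algebra.isEpi_iff_forall_one_tmul_eq]
    set Sp := Localization (Algebra.algebraMapSubmonoid S p.primeCompl)
    set Rp := Localization.AtPrime p
    intro z
    obtain ⟨s, ⟨_, r, hr, rfl⟩, hz⟩ := IsLocalization.exists_mk'_eq (Algebra.algebraMapSubmonoid S p.primeCompl) z
    let B : S →ₗ[R] S →ₗ[R] Sp ⊗[Rp] Sp := LinearMap.mk₂ R
      (fun a b => algebraMap S Sp a ⊗ₜ[Rp] algebraMap S Sp b)
      (fun a a' b => by rw [map_add, TensorProduct.add_tmul])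
      (fun c a b => by
        rw [Algebra.smul_def, map_mul, ← IsScalarTower.algebraMap_apply R S Sp, ← Algebra.smul_def,
          TensorProduct.smul_tmul'])
      (fun a b b' => by rw [map_add, TensorProduct.tmul_add])
      (fun c a b => by
        rw [Algebra.smul_def, map_mul, ← IsScalarTower.algebraMap_apply R S Sp, ← Algebra.smul_def,
          TensorProduct.tmul_smul])
    have h1 := congrArg (TensorProduct.lift B) (h s)
    simp only [B, TensorProduct.lift.tmul, LinearMap.mk₂_apply, map_one] at h1
    set w := IsLocalization.mk' Sp s (⟨_, r, hr, rfl⟩ : Algebra.algebraMapSubmonoid S p.primeCompl)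
    have hw : algebraMap R Rp r • w = algebraMap S Sp s := by
      rw [algebraMap_smul, Algebra.smul_def, IsScalarTower.algebraMap_apply R S Sp, mul_comm]
      exact IsLocalization.mk'_spec Sp s _
    rw [← hz]
    apply (IsLocalization.map_units Rp (⟨r, hr⟩ : p.primeCompl)).smul_left_cancel.1
    rw [← TensorProduct.tmul_smul, TensorProduct.smul_tmul', hw]
    exact h1
  · intro h a
    let z : S ⊗[R] S := (1 : S) ⊗ₜ[R] a - a ⊗ₜ[R] (1 : S)
    suffices hann : (Submodule.span R {z}).annihilator = ⊤ by
      have := (Submodule.mem_annihilator_span_singleton z (1 : R)).1 (hann ▸ Submodule.mem_top)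
      rwa [one_smul, sub_eq_zero] at this
    by_contra hne
    obtain ⟨p, hp, hle⟩ := Ideal.exists_le_maximal _ hne
    set Sp := Localization (Algebra.algebraMapSubmonoid S p.primeCompl)
    set Rp := Localization.AtPrime p
    have h1 := (Algebra.isEpi_iff_forall_one_tmul_eq Rp Sp).1 (h p) (algebraMap S Sp a)
    let ι : S →ₗ[R] Sp := (IsScalarTower.toAlgHom R S Sp).toLinearMap
    haveI hι : IsLocalizedModule p.primeCompl ι := isLocalizedModule_iff_isLocalization.2 inferInstance
    have hz : TensorProduct.map ι ι z = 0 := by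
      have key : ∀ x y : Sp ⊗[R] Sp,
          TensorProduct.mapOfCompatibleSMul Rp R R Sp Sp x = TensorProduct.mapOfCompatibleSMul Rp R R Sp Sp y → x = y :=
        fun x y hxy => by
          haveI := IsLocalization.tensorProduct_compatibleSMul p.primeCompl Rp Sp Sp
          exact (TensorProduct.equivOfCompatibleSMul Rp R R Sp Sp).injective hxy
      refine key _ _ ?_
      rw [map_zero, map_sub, map_sub]
      simp [ι, h1]
    have hfac : TensorProduct.map ι ι z = (ι.lTensor Sp) (ι.rTensor S z) := by
      rw [← LinearMap.comp_apply, LinearMap.lTensor_comp_rTensor]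
    rw [hfac] at hz
    haveI h2' : IsLocalizedModule p.primeCompl (ι.rTensor Sp) :=
      (inferInstance : IsLocalizedModule p.primeCompl (TensorProduct.AlgebraTensorModule.rTensor R Sp ι))
    haveI h2 : IsLocalizedModule p.primeCompl (ι.lTensor Sp) := by
      have h := IsLocalizedModule.of_linearEquiv p.primeCompl
        ((ι.rTensor Sp) ∘ₗ (TensorProduct.comm R Sp S).toLinearMap) (TensorProduct.comm R Sp Sp)
      have he : (TensorProduct.comm R Sp Sp).toLinearMap ∘ₗ ((ι.rTensor Sp) ∘ₗ (TensorProduct.comm R Sp S).toLinearMap) =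
          ι.lTensor Sp := TensorProduct.ext' fun a b => by simp
      rwa [he] at h
    haveI h3 : IsLocalizedModule p.primeCompl (ι.rTensor S) :=
      (inferInstance : IsLocalizedModule p.primeCompl (TensorProduct.AlgebraTensorModule.rTensor R S ι))
    obtain ⟨u, hu⟩ := (IsLocalizedModule.eq_zero_iff p.primeCompl (ι.lTensor Sp)).1 hz
    rw [Submonoid.smul_def, ← map_smul] at hu
    obtain ⟨v, hv⟩ := (IsLocalizedModule.eq_zero_iff p.primeCompl (ι.rTensor S)).1 hu
    refine (v * u).2 (hle ((Submodule.mem_annihilator_span_singleton _ _).2 ?_))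
    rw [Submonoid.coe_mul, mul_smul]
    exact hv

theorem exists_prime_le_mem_support {R S : Type u} [CommRing R] [CommRing S] [Algebra R S] (N : Type u)
    [AddCommGroup N] [Module S N] [Module R N] [IsScalarTower R S N] [Module.Finite S N] [Module.Flat R N]
    (p p' : Ideal R) [p.IsPrime] [p'.IsPrime] (hle : p ≤ p') (q' : PrimeSpectrum S)
    (hq' : q' ∈ Module.support S N) (hover : q'.asIdeal.under R = p') :
    ∃ q : PrimeSpectrum S, q ≤ q' ∧ q ∈ Module.support S N ∧ q.asIdeal.under R = p := by
  set A := Localization.AtPrime q'.asIdeal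
  let N' := A ⊗[S] N
  haveI : Nontrivial N' :=
    (LocalizedModule.equivTensorProduct q'.asIdeal.primeCompl N).toEquiv.symm.nontrivial_congr.2 (Module.mem_support_iff.1 hq') |> fun h => h
  haveI : Module.Flat S A := IsLocalization.flat A q'.asIdeal.primeCompl
  haveI : Module.Flat R N' := flat_baseChange_left N
  have hne : p.map (algebraMap R A) • (⊤ : Submodule A N') ≠ ⊤ := by
    intro h
    refine (Submodule.top_ne_ideal_smul_of_le_jacobson_annihilator (M := N') ?_) h.symm
    refine le_trans ?_ (IsLocalRing.maximalIdeal_le_jacobson _)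
    rw [Ideal.map_le_iff_le_comap]
    refine hle.trans (le_of_eq ?_)
    rw [← hover, IsScalarTower.algebraMap_eq R S A, ← Ideal.comap_comap]
    congr 1
    exact (IsLocalization.AtPrime.comap_maximalIdeal A q'.asIdeal).symm
  obtain ⟨x, hx⟩ : ∃ x : N, (1 : A) ⊗ₜ[S] x ∉ p.map (algebraMap R A) • (⊤ : Submodule A N') := by
    by_contra hno
    push Not at hno
    refine hne (eq_top_iff.2 fun t ht => ?_)
    clear ht
    induction t using TensorProduct.induction_on with
    | zero => exact zero_mem _
    | add a b ha hb => exact add_mem ha hb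
    | tmul a m =>
      rw [← mul_one a, ← smul_eq_mul, ← TensorProduct.smul_tmul']
      exact Submodule.smul_mem _ a (hno m)
  let ρ : (R ⧸ p) →ₗ[R] p.ResidueField := (IsScalarTower.toAlgHom R (R ⧸ p) p.ResidueField).toLinearMap
  let e : N' ⊗[R] p.ResidueField := ((1 : A) ⊗ₜ[S] x) ⊗ₜ[R] (1 : p.ResidueField)
  have he : e ≠ 0 := by
    intro h0
    have hρ : Function.Injective ρ := p.injective_algebraMap_quotient_residueField
    have h1 : ρ.lTensor N' (((1 : A) ⊗ₜ[S] x) ⊗ₜ[R] (1 : R ⧸ p)) = 0 := by
      simpa [ρ, e] using h0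
    have h2 := (injective_iff_map_eq_zero _).1 (Module.Flat.lTensor_preserves_injective_linearMap (M := N') ρ hρ) _ h1
    have h3 := congrArg (TensorProduct.tensorQuotEquivQuotSMul N' p) h2
    rw [map_zero, show (1 : R ⧸ p) = Ideal.Quotient.mk p 1 from rfl, TensorProduct.tensorQuotEquivQuotSMul_tmul_mk,
      one_smul, Submodule.Quotient.mk_eq_zero] at h3
    have key : p • (⊤ : Submodule R N') ≤ (p.map (algebraMap R A) • (⊤ : Submodule A N')).restrictScalars R :=
      Submodule.smul_le.2 fun r hr t _ => by
        rw [Submodule.restrictScalars_mem, ← algebraMap_smul A r t]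
        exact Submodule.smul_mem_smul (Ideal.mem_map_of_mem _ hr) trivial
    exact hx (key h3)
  let T : Submonoid S := q'.asIdeal.primeCompl ⊔ Algebra.algebraMapSubmonoid S p.primeCompl
  have hdisj : Disjoint ((Submodule.span S {e}).annihilator : Set S) T := by
    rw [Set.disjoint_left]
    intro t ht htT
    rw [SetLike.mem_coe, Submonoid.mem_sup] at htT
    obtain ⟨s, hs, _, ⟨r, hr, rfl⟩, rfl⟩ := htT
    rw [SetLike.mem_coe, Submodule.mem_annihilator_span_singleton, mul_comm, mul_smul, algebraMap_smul] at ht
    obtain ⟨u, hu⟩ := (IsLocalization.map_units A (⟨s, hs⟩ : q'.asIdeal.primeCompl)).exists_left_inv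
    refine he ?_
    have hru : IsUnit (algebraMap R p.ResidueField r) := isUnit_iff_ne_zero.2 fun h => hr (Ideal.algebraMap_residueField_eq_zero.1 h)
    obtain ⟨c, hc⟩ := hru.exists_left_inv
    have h1 : e = (u • ((s : S) • ((1 : A) ⊗ₜ[S] x))) ⊗ₜ[R] (c * algebraMap R p.ResidueField r) := by
      rw [hc, ← algebraMap_smul A (s : S), smul_smul, hu, one_smul]
    have h2 : r • ((s : S) • e) = 0 := ht
    have h3 : ∀ (w : N'), w ⊗ₜ[R] (algebraMap R p.ResidueField r) = r • (w ⊗ₜ[R] (1 : p.ResidueField)) := fun w => by
      rw [← TensorProduct.tmul_smul, Algebra.smul_def, mul_one]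
    let Φ : N' ⊗[R] p.ResidueField →ₗ[R] N' ⊗[R] p.ResidueField :=
      TensorProduct.map (u • (LinearMap.id : N' →ₗ[R] N')) (c • (LinearMap.id : p.ResidueField →ₗ[R] p.ResidueField))
    have h4 : Φ (r • ((s : S) • e)) = e := by
      simp only [e, TensorProduct.smul_tmul', ← h3, map_smul]
      rw [TensorProduct.map_tmul, LinearMap.smul_apply, LinearMap.smul_apply,
        LinearMap.id_apply, LinearMap.id_apply, smul_eq_mul]
      exact h1.symm
    rw [← h4, h2, map_zero]
  obtain ⟨Q, hQ, hQle, hQT⟩ := Ideal.exists_le_prime_disjoint _ T hdisj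
  refine ⟨⟨Q, hQ⟩, fun t ht => by_contra fun hn => Set.disjoint_left.1 hQT ht (Submonoid.mem_sup_left hn), ?_, ?_⟩
  · rw [Module.mem_support_iff_exists_annihilator]
    refine ⟨x, le_trans (fun t ht => ?_) hQle⟩
    rw [Submodule.mem_annihilator_span_singleton] at ht ⊢
    simp only [e, TensorProduct.smul_tmul']
    rw [← TensorProduct.tmul_smul, ht, TensorProduct.tmul_zero, TensorProduct.zero_tmul]
  · refine le_antisymm (fun r hr => by_contra fun hn => Set.disjoint_left.1 hQT hr
      (Submonoid.mem_sup_right ⟨r, hn, rfl⟩)) fun r hr => hQle ?_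
    rw [Submodule.mem_annihilator_span_singleton, algebraMap_smul, ← TensorProduct.tmul_smul, Algebra.smul_def,
      Ideal.algebraMap_residueField_eq_zero.2 hr, zero_mul, TensorProduct.tmul_zero]

end Groth.Agent.CAlgMisc
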