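import Mathlib

/-!
Lifting projective and stably free modules; factorization lemmas.
-/

namespace Groth.Agent.CAlgMisc

open scoped TensorProduct

universe u

theorem baseChange_toLin' {R B : Type u} [CommRing R] [CommRing B] [Algebra R B] {m n : ℕ}
    (A : Matrix (Fin m) (Fin n) R) (z : B ⊗[R] (Fin n → R)) :
    TensorProduct.piScalarRight R B B (Fin m) ((Matrix.toLin' A).baseChange B z) =
      Matrix.toLin' (A.map (algebraMap R B)) (TensorProduct.piScalarRight R B B (Fin n) z) := by
  induction z using TensorProduct.induction_on with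
  | zero => simp
  | add a b ha hb => simp only [map_add, ha, hb]
  | tmul c v =>
    funext i
    rw [LinearMap.baseChange_tmul, TensorProduct.piScalarRight_apply, TensorProduct.piScalarRightHom_tmul,
      TensorProduct.piScalarRight_apply, TensorProduct.piScalarRightHom_tmul, Matrix.toLin'_apply, Matrix.toLin'_apply]
    simp only [Matrix.mulVec, dotProduct, Matrix.map_apply, Finset.sum_smul, Algebra.smul_def, map_mul]
    rw [map_sum, Finset.sum_mul]
    exact Finset.sum_congr rfl fun j _ => by rw [map_mul]; ring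

theorem exists_projective_lift {R : Type u} [CommRing R] (I : Ideal R) (hI : ∀ x ∈ I, IsNilpotent x)
    (Pb : Type u) [AddCommGroup Pb] [Module (R ⧸ I) Pb] [Module.Projective (R ⧸ I) Pb]
    [Module.Finite (R ⧸ I) Pb] :
    ∃ (P : Type u) (_ : AddCommGroup P) (_ : Module R P), Module.Projective R P ∧ Module.Finite R P ∧
      Nonempty (((R ⧸ I) ⊗[R] P) ≃ₗ[R ⧸ I] Pb) := by
  classical
  obtain ⟨n, q₀, hq₀⟩ := Module.Finite.exists_fin' (R ⧸ I) Pb
  obtain ⟨i₀, hi₀⟩ := Module.projective_lifting_property q₀ LinearMap.id hq₀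
  let eb := LinearMap.toMatrix' (i₀ ∘ₗ q₀)
  have heb : IsIdempotentElem eb := by
    show eb * eb = eb
    rw [← LinearMap.toMatrix'_comp, LinearMap.comp_assoc, ← LinearMap.comp_assoc q₀ i₀, hi₀, LinearMap.id_comp]
  let F : Matrix (Fin n) (Fin n) R →+* Matrix (Fin n) (Fin n) (R ⧸ I) := (Ideal.Quotient.mk I).mapMatrix
  have hker : ∀ A ∈ RingHom.ker F, IsNilpotent A := by
    intro A hA
    have hent : ∀ i j, A i j ∈ I := fun i j =>
      Ideal.Quotient.eq_zero_iff_mem.1 (congrFun (congrFun hA i) j)
    let J : Ideal R := Ideal.span (Set.range fun p : Fin n × Fin n => A p.1 p.2)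
    have hJfg : J.FG := Submodule.fg_span (Set.finite_range _)
    have hJnil : J ≤ nilradical R := Ideal.span_le.2 (by
      rintro _ ⟨p, rfl⟩
      exact mem_nilradical.2 (hI _ (hent _ _)))
    obtain ⟨N, hN⟩ := Ideal.exists_pow_le_of_le_radical_of_fg (I := J) (J := (⊥ : Ideal R)) hJnil hJfg
    refine ⟨N, ?_⟩
    have hpow : ∀ k i j, (A ^ k) i j ∈ J ^ k := by
      intro k
      induction k with
      | zero => intro i j; simp
      | succ k ih =>
        intro i j
        rw [pow_succ, pow_succ, Matrix.mul_apply]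
        exact Ideal.sum_mem _ fun l _ => Ideal.mul_mem_mul (ih i l) (Ideal.subset_span ⟨(l, j), rfl⟩)
    ext i j
    exact Ideal.mem_bot.1 (hN (hpow N i j))
  have hrange : eb ∈ F.range := ⟨eb.map (Function.surjInv Ideal.Quotient.mk_surjective),
    Matrix.ext fun i j => Function.surjInv_eq Ideal.Quotient.mk_surjective _⟩
  obtain ⟨e, he, hFe⟩ := exists_isIdempotentElem_eq_of_ker_isNilpotent F hker eb hrange heb
  let E := Matrix.toLin' e
  let P := LinearMap.range E
  have hEE : E ∘ₗ E = E := by rw [← Matrix.toLin'_mul, he.eq]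
  let q : (Fin n → R) →ₗ[R] P := E.rangeRestrict
  have hqi : q ∘ₗ P.subtype = LinearMap.id := by
    refine LinearMap.ext fun x => Subtype.ext ?_
    obtain ⟨y, hy⟩ := x.2
    show E (x : Fin n → R) = x
    rw [← hy]
    exact LinearMap.congr_fun hEE y
  refine ⟨P, inferInstance, inferInstance, Module.Projective.of_split P.subtype q hqi,
    Module.Finite.range E, ⟨?_⟩⟩
  let θ := TensorProduct.piScalarRight R (R ⧸ I) (R ⧸ I) (Fin n)
  have hθ : ∀ z, θ (E.baseChange (R ⧸ I) z) = i₀ (q₀ (θ z)) := by
    intro z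
    rw [baseChange_toLin', show e.map (algebraMap R (R ⧸ I)) = eb from hFe, Matrix.toLin'_toMatrix']
    rfl
  have hiq : ∀ z, (P.subtype.baseChange (R ⧸ I)) ((q.baseChange (R ⧸ I)) z) = E.baseChange (R ⧸ I) z := by
    intro z
    rw [← LinearMap.comp_apply, ← LinearMap.baseChange_comp]
    rfl
  have hqi' : ∀ w, (q.baseChange (R ⧸ I)) ((P.subtype.baseChange (R ⧸ I)) w) = w := by
    intro w
    rw [← LinearMap.comp_apply, ← LinearMap.baseChange_comp, hqi, LinearMap.baseChange_id]
    rfl
  refine LinearEquiv.ofLinear (q₀ ∘ₗ θ.toLinearMap ∘ₗ P.subtype.baseChange (R ⧸ I))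
    ((q.baseChange (R ⧸ I)) ∘ₗ θ.symm.toLinearMap ∘ₗ i₀) ?_ ?_
  · refine LinearMap.ext fun x => ?_
    simp only [LinearMap.comp_apply, LinearEquiv.coe_coe, LinearMap.id_apply]
    rw [hiq, hθ, θ.apply_symm_apply]
    have := LinearMap.congr_fun hi₀ x
    simp only [LinearMap.comp_apply, LinearMap.id_apply] at this
    rw [this, this]
  · refine LinearMap.ext fun w => ?_
    simp only [LinearMap.comp_apply, LinearEquiv.coe_coe, LinearMap.id_apply]
    have h1 : θ (E.baseChange (R ⧸ I) ((P.subtype.baseChange (R ⧸ I)) w)) = θ ((P.subtype.baseChange (R ⧸ I)) w) := by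
      rw [← hiq, hqi']
    rw [hθ] at h1
    rw [h1, θ.symm_apply_apply, hqi']

theorem isStablyFree_prod_iff {R : Type u} [CommRing R] {A B : Type u} [AddCommGroup A] [Module R A]
    [Module.Finite R A] [AddCommGroup B] [Module R B] [Module.IsStablyFree R A] :
    Module.IsStablyFree R (A × B) ↔ Module.IsStablyFree R B := by
  obtain ⟨N, _, _, _, _, hA⟩ := Module.IsStablyFree.exist_free_prod R A
  constructor
  · intro h
    obtain ⟨M, _, _, _, _, hAB⟩ := Module.IsStablyFree.exist_free_prod R (A × B)
    haveI : Module.Free R (B × ((A × N) × M)) := by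
      haveI : Module.Free R (((A × B) × M) × N) := inferInstance
      refine Module.Free.of_equiv (R := R) (M := ((A × B) × M) × N) (?_ : (((A × B) × M) × N) ≃ₗ[R] B × ((A × N) × M))
      exact
        { toFun := fun x => (x.1.1.2, ((x.1.1.1, x.2), x.1.2))
          map_add' := fun _ _ => rfl
          map_smul' := fun _ _ => rfl
          invFun := fun y => (((y.2.1.1, y.1), y.2.2), y.2.1.2)
          left_inv := fun _ => rfl
          right_inv := fun _ => rfl }
    exact Module.IsStablyFree.of_free_prod R B ((A × N) × M)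
  · intro h
    obtain ⟨M, _, _, _, _, hB⟩ := Module.IsStablyFree.exist_free_prod R B
    haveI : Module.Free R ((A × B) × (N × M)) := by
      exact Module.Free.of_equiv (LinearEquiv.prodProdProdComm R A N B M)
    exact Module.IsStablyFree.of_free_prod R (A × B) (N × M)

theorem isStablyFree_two_out_of_three {R : Type u} [CommRing R] {P' P P'' : Type u}
    [AddCommGroup P'] [Module R P'] [Module.Finite R P'] [AddCommGroup P] [Module R P]
    [AddCommGroup P''] [Module R P''] [Module.Finite R P''] [Module.Projective R P'']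
    (f : P' →ₗ[R] P) (g : P →ₗ[R] P'') (hf : Function.Injective f) (hg : Function.Surjective g)
    (hfg : Function.Exact f g) :
    (Module.IsStablyFree R P' → Module.IsStablyFree R P → Module.IsStablyFree R P'') ∧
    (Module.IsStablyFree R P' → Module.IsStablyFree R P'' → Module.IsStablyFree R P) ∧
    (Module.IsStablyFree R P → Module.IsStablyFree R P'' → Module.IsStablyFree R P') := by
  obtain ⟨l, hl⟩ := Module.projective_lifting_property g LinearMap.id hg
  let e := (hfg.splitSurjectiveEquiv hf ⟨l, hl⟩).1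
  rw [Module.IsStablyFree.equiv_iff e]
  refine ⟨fun _ h => isStablyFree_prod_iff.1 h, fun _ h => isStablyFree_prod_iff.2 h, fun h _ => ?_⟩
  haveI : Module.IsStablyFree R (P'' × P') := Module.IsStablyFree.equiv (LinearEquiv.prodComm R P' P'')
  exact (isStablyFree_prod_iff (A := P'') (B := P')).1 inferInstance

theorem exists_fin_equiv (A : Type u) [CommRing A] (M : Type u) [AddCommGroup M] [Module A M]
    [Module.Finite A M] [Module.Free A M] : ∃ n, Nonempty (M ≃ₗ[A] (Fin n → A)) := by
  rcases subsingleton_or_nontrivial A with h | h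
  · haveI : Subsingleton M := Module.subsingleton A M
    exact ⟨0, ⟨LinearEquiv.ofSubsingleton M (Fin 0 → A)⟩⟩
  · exact ⟨_, ⟨(Module.finBasis A M).equivFun⟩⟩

theorem exists_stablyFree_lift {R : Type u} [CommRing R] (I : Ideal R) (hI : I ≤ Ideal.jacobson (⊥ : Ideal R))
    (E : Type u) [AddCommGroup E] [Module (R ⧸ I) E] [Module.Finite (R ⧸ I) E]
    [Module.IsStablyFree (R ⧸ I) E] :
    ∃ (M : Type u) (_ : AddCommGroup M) (_ : Module R M), Module.Finite R M ∧ Module.IsStablyFree R M ∧
      Nonempty ((R ⧸ I) ⊗[R] M ≃ₗ[R ⧸ I] E) := by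
  classical
  set B := R ⧸ I
  obtain ⟨N, _, _, _, _, hEN⟩ := Module.IsStablyFree.exist_free_prod B E
  obtain ⟨m, ⟨eN⟩⟩ := exists_fin_equiv B N
  obtain ⟨n, ⟨eX⟩⟩ := exists_fin_equiv B (E × N)
  let pb : (Fin n → B) →ₗ[B] (Fin m → B) := eN.toLinearMap ∘ₗ LinearMap.snd B E N ∘ₗ eX.symm.toLinearMap
  let Pm : Matrix (Fin m) (Fin n) R := (LinearMap.toMatrix' pb).map (Function.surjInv Ideal.Quotient.mk_surjective)
  let p := Matrix.toLin' Pm
  let θn := TensorProduct.piScalarRight R B B (Fin n)
  let θm := TensorProduct.piScalarRight R B B (Fin m)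
  have hPm : Pm.map (algebraMap R B) = LinearMap.toMatrix' pb :=
    Matrix.ext fun i j => Function.surjInv_eq Ideal.Quotient.mk_surjective _
  have hp : ∀ z, θm (p.baseChange B z) = pb (θn z) := fun z => by
    rw [baseChange_toLin', hPm, Matrix.toLin'_toMatrix']
  have hpbs : Function.Surjective pb := fun y => ⟨eX (0, eN.symm y), by simp [pb]⟩
  have hps : Function.Surjective p := by
    have h2 : (⊤ : Submodule R (Fin m → R)) ≤ LinearMap.range p ⊔ I • ⊤ := by
      intro y _
      obtain ⟨z, hz⟩ := hpbs (θm ((1 : B) ⊗ₜ y))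
      obtain ⟨v, hv⟩ : ∃ v : Fin n → R, θn ((1 : B) ⊗ₜ v) = z := by
        choose v hv using fun j => Ideal.Quotient.mk_surjective (z j)
        exact ⟨v, funext fun j => by simp [θn, TensorProduct.piScalarRight_apply, Algebra.smul_def, hv, B]⟩
      rw [← hv, ← hp, LinearMap.baseChange_tmul] at hz
      have h3 := congrArg (TensorProduct.quotTensorEquivQuotSMul (Fin m → R) I) (θm.injective hz)
      rw [show (1 : B) = Ideal.Quotient.mk I 1 from rfl, TensorProduct.quotTensorEquivQuotSMul_mk_tmul,
        TensorProduct.quotTensorEquivQuotSMul_mk_tmul, one_smul, one_smul, Submodule.Quotient.eq] at h3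
      rw [← add_sub_cancel (p v) y, ← neg_sub (p v) y]
      exact add_mem (Submodule.mem_sup_left ⟨v, rfl⟩) (Submodule.mem_sup_right (neg_mem h3))
    exact LinearMap.range_eq_top.1 (top_le_iff.1
      (Submodule.le_of_le_smul_of_le_jacobson_bot Module.Finite.fg_top hI h2))
  obtain ⟨s, hs⟩ := Module.projective_lifting_property p LinearMap.id hps
  let M := LinearMap.ker p
  let r : (Fin n → R) →ₗ[R] M := LinearMap.codRestrict M (LinearMap.id - s ∘ₗ p) fun x => by
    rw [LinearMap.mem_ker, LinearMap.sub_apply, map_sub, LinearMap.id_apply, ← LinearMap.comp_apply,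
      ← LinearMap.comp_assoc, hs, LinearMap.id_comp, sub_self]
  have hr : r ∘ₗ M.subtype = LinearMap.id := LinearMap.ext fun x => Subtype.ext (by
    show (x : Fin n → R) - s (p x) = x
    rw [LinearMap.mem_ker.1 x.2, map_zero, sub_zero])
  haveI : Module.Finite R M := Module.Finite.of_surjective r fun x => ⟨x, LinearMap.congr_fun hr x⟩
  haveI : Module.IsStablyFree R M := by
    haveI : Module.Free R (M × (Fin m → R)) := Module.Free.of_equiv
      ((LinearMap.exact_subtype_ker_map p).splitSurjectiveEquiv Subtype.val_injective ⟨s, hs⟩).1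
    exact Module.IsStablyFree.of_free_prod R M (Fin m → R)
  let φ : B ⊗[R] M →ₗ[B] E := LinearMap.fst B E N ∘ₗ eX.symm.toLinearMap ∘ₗ θn.toLinearMap ∘ₗ M.subtype.baseChange B
  have hzero : ∀ w, pb (θn (M.subtype.baseChange B w)) = 0 := fun w => by
    rw [← hp, ← LinearMap.comp_apply (p.baseChange B), ← LinearMap.baseChange_comp,
      show p ∘ₗ M.subtype = 0 from LinearMap.ext fun x => LinearMap.mem_ker.1 x.2, LinearMap.baseChange_zero,
      LinearMap.zero_apply, map_zero]
  have hsnd : ∀ w, (eX.symm (θn (M.subtype.baseChange B w))).2 = 0 := fun w => by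
    have := hzero w
    exact eN.map_eq_zero_iff.1 this
  refine ⟨M, inferInstance, inferInstance, inferInstance, inferInstance,
    ⟨LinearEquiv.ofBijective φ ⟨?_, fun e => ?_⟩⟩⟩
  · intro a b hab
    have h1 : M.subtype.baseChange B a = M.subtype.baseChange B b :=
      θn.injective (eX.symm.injective (Prod.ext hab ((hsnd a).trans (hsnd b).symm)))
    have h2 := congrArg (r.baseChange B) h1
    rwa [← LinearMap.comp_apply, ← LinearMap.comp_apply, ← LinearMap.baseChange_comp, hr, LinearMap.baseChange_id] at h2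
  · let z := θn.symm (eX (e, 0))
    have hz : p.baseChange B z = 0 := θm.injective (by rw [hp, map_zero]; simp [pb, z])
    refine ⟨r.baseChange B z, ?_⟩
    have h1 : M.subtype.baseChange B (r.baseChange B z) = z := by
      rw [← LinearMap.comp_apply, ← LinearMap.baseChange_comp,
        show M.subtype ∘ₗ r = LinearMap.id - s ∘ₗ p from rfl, LinearMap.baseChange_sub, LinearMap.baseChange_id,
        LinearMap.baseChange_comp, LinearMap.sub_apply, LinearMap.comp_apply, hz, map_zero, sub_zero]
      rfl
    simp only [φ, LinearMap.comp_apply, h1]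
    simp [z]

theorem exists_finite_projective_factor (R : Type u) [CommRing R] {M N : Type u} [AddCommGroup M]
    [Module R M] [Module.Finite R M] [AddCommGroup N] [Module R N] (φ : M →ₗ[R] N)
    (h : ∃ (P : Type u) (_ : AddCommGroup P) (_ : Module R P) (_ : Module.Projective R P) (f : M →ₗ[R] P)
      (g : P →ₗ[R] N), g ∘ₗ f = φ) :
    ∃ (P : Type u) (_ : AddCommGroup P) (_ : Module R P) (_ : Module.Projective R P) (_ : Module.Finite R P)
      (f : M →ₗ[R] P) (g : P →ₗ[R] N), g ∘ₗ f = φ := by
  classical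
  obtain ⟨P, _, _, _, f, g, rfl⟩ := h
  obtain ⟨i, hi⟩ := (Module.Projective.out : ∃ i : P →ₗ[R] (P →₀ R), _)
  obtain ⟨k, v, hv⟩ := Module.Finite.exists_fin (R := R) (M := M)
  let s : Finset P := Finset.univ.biUnion fun l => (i (f (v l))).support
  let J := {x : P // x ∈ s}
  let π : (P →₀ R) →ₗ[R] (J →₀ R) := Finsupp.lcomapDomain Subtype.val Subtype.val_injective
  let g' : (J →₀ R) →ₗ[R] N := g ∘ₗ Finsupp.linearCombination R id ∘ₗ Finsupp.lmapDomain R R Subtype.val
  refine ⟨J →₀ R, inferInstance, inferInstance, inferInstance, inferInstance, π ∘ₗ i ∘ₗ f, g',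
    LinearMap.ext_on_range hv fun l => ?_⟩
  have hsub : (i (f (v l))).support ⊆ s := fun x hx => Finset.mem_biUnion.2 ⟨l, Finset.mem_univ l, hx⟩
  have h1 : Finsupp.mapDomain Subtype.val (π (i (f (v l)))) = i (f (v l)) := by
    refine Finsupp.mapDomain_comapDomain Subtype.val Subtype.val_injective _ fun x hx => ?_
    exact ⟨⟨x, hsub hx⟩, rfl⟩
  simp only [g', LinearMap.comp_apply, Finsupp.lmapDomain_apply, h1]
  rw [hi]

theorem flat_iff_lift {R : Type u} [CommRing R] (M : Type u) [AddCommGroup M] [Module R M] :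
    Module.Flat R M ↔ ∀ (P : Type u) [AddCommGroup P] [Module R P], Module.FinitePresentation R P →
      ∀ (N : Type u) [AddCommGroup N] [Module R N] (g : N →ₗ[R] M), Function.Surjective g →
        ∀ h : P →ₗ[R] M, ∃ h' : P →ₗ[R] N, g.comp h' = h := by
  classical
  constructor
  · intro _ P _ _ _ N _ _ g hg h
    obtain ⟨k, a, b, rfl⟩ := Module.Flat.exists_factorization_of_finitePresentation h
    obtain ⟨b', rfl⟩ := Module.projective_lifting_property g b hg
    exact ⟨b' ∘ₗ a, rfl⟩
  · intro H
    refine Module.Flat.of_forall_exists_factorization fun {l f x} hx => ?_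
    let Q := (Fin l →₀ R) ⧸ Submodule.span R {f}
    haveI : Module.FinitePresentation R Q := Module.finitePresentation_of_surjective (Submodule.mkQ _)
      (Submodule.mkQ_surjective _) (by rw [Submodule.ker_mkQ]; exact Submodule.fg_span_singleton f)
    obtain ⟨h', hh'⟩ := H Q inferInstance (M →₀ R) (Finsupp.linearCombination R id)
      (Finsupp.linearCombination_id_surjective R M) (Submodule.liftQ _ x (by
        rw [Submodule.span_singleton_le_iff_mem, LinearMap.mem_ker, hx]))
    let a₀ := h' ∘ₗ Submodule.mkQ (Submodule.span R {f})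
    let s : Finset M := Finset.univ.biUnion fun j : Fin l => (a₀ (Finsupp.single j 1)).support
    let J := {z : M // z ∈ s}
    let e : J ≃ Fin (Fintype.card J) := Fintype.equivFin J
    let π : (M →₀ R) →ₗ[R] (Fin (Fintype.card J) →₀ R) :=
      (Finsupp.domLCongr e).toLinearMap ∘ₗ Finsupp.lcomapDomain Subtype.val Subtype.val_injective
    let y : (Fin (Fintype.card J) →₀ R) →ₗ[R] M :=
      Finsupp.linearCombination R id ∘ₗ Finsupp.lmapDomain R R Subtype.val ∘ₗ (Finsupp.domLCongr e).symm.toLinearMap
    refine ⟨Fintype.card J, π ∘ₗ a₀, y, ?_, ?_⟩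
    · refine Finsupp.lhom_ext fun j c => ?_
      have hsub : (a₀ (Finsupp.single j 1)).support ⊆ s := fun z hz => Finset.mem_biUnion.2 ⟨j, Finset.mem_univ j, hz⟩
      have h1 : Finsupp.mapDomain Subtype.val ((Finsupp.lcomapDomain (R := R) (M := R) (Subtype.val : J → M) Subtype.val_injective)
          (a₀ (Finsupp.single j 1))) = a₀ (Finsupp.single j 1) := by
        refine Finsupp.mapDomain_comapDomain Subtype.val Subtype.val_injective _ fun z hz => ?_
        exact ⟨⟨z, hsub hz⟩, rfl⟩
      have h2 := LinearMap.congr_fun hh' (Submodule.Quotient.mk (Finsupp.single j 1))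
      simp only [LinearMap.comp_apply, Submodule.liftQ_apply] at h2
      rw [← mul_one c, ← Finsupp.smul_single', map_smul, map_smul]
      congr 1
      simp only [y, π, LinearMap.comp_apply, LinearEquiv.coe_coe, LinearEquiv.symm_apply_apply,
        Finsupp.lmapDomain_apply, h1]
      exact h2.symm
    · rw [LinearMap.comp_apply]
      show π (h' (Submodule.Quotient.mk f)) = 0
      rw [(Submodule.Quotient.mk_eq_zero _).2 (Submodule.mem_span_singleton_self f), map_zero, map_zero]

end Groth.Agent.CAlgMisc
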