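import Mathlib

/-!
Torsion-free modules over domains and their duals.
-/

namespace Groth.Agent.CAlgMisc

universe u

open TensorProduct

theorem exists_injective_of_isTorsionFree (R : Type u) [CommRing R] [IsDomain R] (M : Type u)
    [AddCommGroup M] [Module R M] [Module.Finite R M] [Module.IsTorsionFree R M] :
    ∃ (n : ℕ) (f : M →ₗ[R] (Fin n → R)), Function.Injective f := by
  classical
  let K := FractionRing R
  let V := LocalizedModule (nonZeroDivisors R) M
  let j := LocalizedModule.mkLinearMap (nonZeroDivisors R) M
  have hj : Function.Injective j := by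
    refine (injective_iff_map_eq_zero j).2 fun x hx => ?_
    obtain ⟨s, hs⟩ := (IsLocalizedModule.eq_zero_iff (nonZeroDivisors R) j).1 hx
    exact (smul_eq_zero.1 hs).resolve_left (nonZeroDivisors.ne_zero s.2)
  haveI : Module.Finite K V := Module.Finite.of_isLocalizedModule (nonZeroDivisors R) j
  let b := Module.finBasis K V
  let n := Module.finrank K V
  let g : M →ₗ[R] (Fin n → K) := (b.equivFun.toLinearMap.restrictScalars R).comp j
  have hg : Function.Injective g := b.equivFun.injective.comp hj
  obtain ⟨k, v, hv⟩ := Module.Finite.exists_fin (R := R) (M := M)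
  obtain ⟨d, hd⟩ := IsLocalization.exist_integer_multiples_of_finite (nonZeroDivisors R)
    (fun il : Fin k × Fin n => g (v il.1) il.2)
  have hall : ∀ x i, ∃ r : R, algebraMap R K r = (d : R) • g x i := by
    intro x
    have hx : x ∈ Submodule.span R (Set.range v) := by rw [hv]; trivial
    induction hx using Submodule.span_induction with
    | mem x hx => obtain ⟨l, rfl⟩ := hx; intro i; exact hd (l, i)
    | zero => intro i; exact ⟨0, by simp⟩
    | add a b _ _ ha hb =>
      intro i
      obtain ⟨r, hr⟩ := ha i
      obtain ⟨s, hs⟩ := hb i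
      exact ⟨r + s, by rw [map_add, hr, hs, map_add, Pi.add_apply, smul_add]⟩
    | smul c a _ ha =>
      intro i
      obtain ⟨r, hr⟩ := ha i
      exact ⟨c * r, by rw [map_mul, hr, map_smul, Pi.smul_apply, ← Algebra.smul_def, smul_comm]⟩
  choose r hr using hall
  refine ⟨n, { toFun := fun x i => r x i, map_add' := fun x y => funext fun i => ?_,
               map_smul' := fun c x => funext fun i => ?_ }, fun x y hxy => hg (funext fun i => ?_)⟩
  · refine IsFractionRing.injective R K ?_
    rw [Pi.add_apply, map_add, hr, hr, hr, map_add, Pi.add_apply, smul_add]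
  · refine IsFractionRing.injective R K ?_
    rw [RingHom.id_apply, Pi.smul_apply, smul_eq_mul, map_mul, hr, hr, map_smul, Pi.smul_apply,
      ← Algebra.smul_def, smul_comm]
  · have h := congrArg (algebraMap R K) (congrFun hxy i)
    change algebraMap R K (r x i) = algebraMap R K (r y i) at h
    rw [hr, hr, Algebra.smul_def, Algebra.smul_def] at h
    exact mul_left_cancel₀ (fun h0 => nonZeroDivisors.ne_zero d.2
      (IsFractionRing.injective R K (h0.trans (map_zero _).symm))) h

theorem isTorsionFree_iff_exists (R : Type u) [CommRing R] [IsDomain R] (M : Type u)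
    [AddCommGroup M] [Module R M] [Module.Finite R M] :
    Module.IsTorsionFree R M ↔ ∃ (n : ℕ) (f : M →ₗ[R] (Fin n → R)), Function.Injective f :=
  ⟨fun _ => exists_injective_of_isTorsionFree R M,
    fun ⟨_, f, hf⟩ => hf.moduleIsTorsionFree f (map_smul f)⟩

theorem eval_injective_iff (R : Type u) [CommRing R] [IsDomain R] (M : Type u)
    [AddCommGroup M] [Module R M] [Module.Finite R M] :
    Function.Injective (Module.Dual.eval R M) ↔ Module.IsTorsionFree R M := by
  refine ⟨fun h => ?_, fun _ => ?_⟩
  · refine ⟨fun r hr x y hxy => ?_⟩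
    refine h (LinearMap.ext fun φ => ?_)
    have h' : φ (r • x) = φ (r • y) := congrArg φ hxy
    rw [map_smul, map_smul, smul_eq_mul, smul_eq_mul] at h'
    exact mul_left_cancel₀ hr.ne_zero h'
  · obtain ⟨n, f, hf⟩ := exists_injective_of_isTorsionFree R M
    refine fun x y hxy => hf (funext fun i => ?_)
    exact LinearMap.congr_fun hxy ((LinearMap.proj i).comp f)

theorem eval_surjective_dvr (R : Type u) [CommRing R] [IsDomain R] [IsPrincipalIdealRing R] (M : Type u)
    [AddCommGroup M] [Module R M] [Module.Finite R M] : Function.Surjective (Module.Dual.eval R M) := by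
  let T := Submodule.torsion R M
  haveI : Module.IsTorsionFree R (M ⧸ T) := inferInstance
  haveI : Module.Free R (M ⧸ T) := inferInstance
  have hker : ∀ φ : Module.Dual R M, T ≤ LinearMap.ker φ := fun φ x hx => by
    obtain ⟨⟨a, ha⟩, hax⟩ := (Submodule.mem_torsion_iff x).1 hx
    have h := congrArg φ hax
    rw [map_zero, Submonoid.smul_def, map_smul, smul_eq_mul] at h
    exact (mul_eq_zero.1 h).resolve_left (nonZeroDivisors.ne_zero ha)
  intro Φ
  obtain ⟨y, hy⟩ := (Module.bijective_dual_eval R (M ⧸ T)).2 (Φ.comp T.mkQ.dualMap)
  obtain ⟨x, rfl⟩ := T.mkQ_surjective y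
  refine ⟨x, LinearMap.ext fun φ => ?_⟩
  have h := LinearMap.congr_fun hy (T.liftQ φ (hker φ))
  rw [Module.Dual.eval_apply, LinearMap.comp_apply,
    show T.mkQ.dualMap (T.liftQ φ (hker φ)) = φ from LinearMap.ext fun z => rfl] at h
  rw [Module.Dual.eval_apply, ← h]
  rfl

theorem isTorsionFree_baseChange (R R' : Type u) [CommRing R] [IsDomain R] [CommRing R']
    [IsDomain R'] [Algebra R R'] [Module.Flat R R'] (M : Type u) [AddCommGroup M] [Module R M]
    [Module.IsTorsionFree R M] : Module.IsTorsionFree R' (R' ⊗[R] M) := by
  let j := LocalizedModule.mkLinearMap (nonZeroDivisors R) M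
  have hj : Function.Injective j := by
    refine (injective_iff_map_eq_zero j).2 fun x hx => ?_
    obtain ⟨s, hs⟩ := (IsLocalizedModule.eq_zero_iff (nonZeroDivisors R) j).1 hx
    exact (smul_eq_zero.1 hs).resolve_left (nonZeroDivisors.ne_zero s.2)
  haveI : Module.Flat (Localization (nonZeroDivisors R)) (LocalizedModule (nonZeroDivisors R) M) :=
    inferInstanceAs (Module.Flat (FractionRing R) _)
  haveI : Module.Flat R (Localization (nonZeroDivisors R)) := IsLocalization.flat _ (nonZeroDivisors R)
  haveI : Module.Flat R (LocalizedModule (nonZeroDivisors R) M) :=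
    Module.Flat.trans R (Localization (nonZeroDivisors R)) _
  exact (Module.Flat.lTensor_preserves_injective_linearMap (M := R') j hj).moduleIsTorsionFree
    (TensorProduct.AlgebraTensorModule.lTensor R' R' j) (map_smul _)

theorem flat_of_faithfullyFlat {R S : Type u} [CommRing R] [CommRing S] [Algebra R S] (M : Type u)
    [AddCommGroup M] [Module S M] [Module R M] [IsScalarTower R S M] [Module.Flat R M]
    [Module.FaithfullyFlat S M] : Module.Flat R S := by
  refine Module.Flat.iff_lTensor_preserves_injective_linearMap.2 fun N P _ _ _ _ f hf => ?_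
  let g := TensorProduct.AlgebraTensorModule.lTensor S S f
  suffices Function.Injective g from this
  rw [← Module.FaithfullyFlat.lTensor_injective_iff_injective S M]
  have h := Module.Flat.lTensor_preserves_injective_linearMap (M := M) f hf
  have heq : ∀ z, TensorProduct.AlgebraTensorModule.cancelBaseChange R S S M P (g.lTensor M z) =
      f.lTensor M (TensorProduct.AlgebraTensorModule.cancelBaseChange R S S M N z) := fun z => by
    induction z using TensorProduct.induction_on with
    | zero => simp
    | tmul m t =>
      induction t using TensorProduct.induction_on with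
      | zero => simp
      | tmul s n => simp [g]
      | add a b ha hb => rw [TensorProduct.tmul_add, map_add, map_add, ha, hb, map_add, map_add]
    | add a b ha hb => rw [map_add, map_add, ha, hb, map_add, map_add]
  intro a b hab
  exact (TensorProduct.AlgebraTensorModule.cancelBaseChange R S S M N).injective
    (h (by rw [← heq, ← heq, hab]))

end Groth.Agent.CAlgMisc
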